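import Groth.Prelude.Def_EtLam
import Groth.Prelude.Def_EtModD2
import Groth.Agent.EtPBCDMod.Main
import Groth.Agent.EtCurveFin.Basic

/-!
# Abelian sheaves with a ring action and sheaves of modules
-/

set_option autoImplicit false
set_option linter.style.haveILetI false
set_option linter.unusedSectionVars false
set_option backward.isDefEq.respectTransparency false
set_option backward.isDefEq.respectTransparency.types false

universe u

open CategoryTheory CategoryTheory.Limits AlgebraicGeometry Opposite CategoryTheory.Abelian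

set_option maxHeartbeats 400000

noncomputable section

namespace Groth.Agent.EtLamFin

open Groth.Agent

variable (Λ : Type) [CommRing Λ] {X : Scheme.{u}}

/-- the coefficients in the universe of sections -/
abbrev CR : Type (u + 1) := ULift.{u + 1} Λ

/-- multiplication by a scalar on a sheaf of modules, on the underlying abelian sheaf -/
def actOf (G : EtModW.Mod (CR.{u} Λ) X) : Λ →+* End ((EtModD.forgetToAb (CR.{u} Λ) X).obj G) where
  toFun r := (EtModD.forgetToAb (CR.{u} Λ) X).map ((ULift.up r : CR.{u} Λ) • 𝟙 G)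
  map_one' := by
    rw [show (ULift.up (1 : Λ) : CR.{u} Λ) = 1 from rfl, one_smul]
    exact (EtModD.forgetToAb (CR.{u} Λ) X).map_id G
  map_mul' r s := by
    rw [End.mul_def, ← Functor.map_comp, Linear.smul_comp, Category.id_comp, smul_smul, mul_comm]
    rfl
  map_zero' := by
    rw [show (ULift.up (0 : Λ) : CR.{u} Λ) = 0 from rfl, zero_smul]
    exact Functor.map_zero _ _ _
  map_add' r s := by
    rw [show (ULift.up (r + s) : CR.{u} Λ) = ULift.up r + ULift.up s from rfl, add_smul]
    exact Functor.map_add _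

/-- the abelian sheaf with action underlying a sheaf of modules -/
def lamOf (G : EtModW.Mod (CR.{u} Λ) X) : EtLam.Sheaf Λ X := ⟨(EtModD.forgetToAb (CR.{u} Λ) X).obj G, actOf Λ G⟩

variable {Λ}

/-- the scalars acting on sections -/
def endHom (L : EtLam.Sheaf Λ X) (U : X.Etaleᵒᵖ) : CR.{u} Λ →+* AddMonoid.End (L.carrier.obj.obj U) where
  toFun r := ((L.act r.down).hom.app U).hom
  map_one' := by
    rw [show (1 : CR.{u} Λ).down = 1 from rfl, map_one]
    rfl
  map_mul' r s := by
    rw [show (r * s).down = r.down * s.down from rfl, map_mul]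
    rfl
  map_zero' := by
    rw [show (0 : CR.{u} Λ).down = 0 from rfl, map_zero]
    rfl
  map_add' r s := by
    rw [show (r + s).down = r.down + s.down from rfl, map_add]
    rfl

/-- module structures on sections -/
@[reducible] def modOn (L : EtLam.Sheaf Λ X) (U : X.Etaleᵒᵖ) : Module (CR.{u} Λ) (L.carrier.obj.obj U) :=
  Module.compHom _ (endHom L U)

/-- the presheaf of modules of a sheaf with action -/
def modPre (L : EtLam.Sheaf Λ X) : X.Etaleᵒᵖ ⥤ ModuleCat.{u + 1} (CR.{u} Λ) where
  obj U := letI := modOn L U; ModuleCat.of (CR.{u} Λ) (L.carrier.obj.obj U)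
  map {U V} f :=
    letI := modOn L U
    letI := modOn L V
    ModuleCat.ofHom
      { toFun := L.carrier.obj.map f
        map_add' := fun a b => map_add (L.carrier.obj.map f).hom a b
        map_smul' := fun r a => (NatTrans.naturality_apply (L.act r.down).hom f a).symm }
  map_id U := by
    letI := modOn L U
    exact ModuleCat.hom_ext (LinearMap.ext fun a => ConcreteCategory.congr_hom (L.carrier.obj.map_id U) a)
  map_comp {U V W} f g := by
    letI := modOn L U
    letI := modOn L V
    letI := modOn L W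
    exact ModuleCat.hom_ext (LinearMap.ext fun a => ConcreteCategory.congr_hom (L.carrier.obj.map_comp f g) a)

/-- the sheaf of modules of a sheaf with action -/
def toMod (L : EtLam.Sheaf Λ X) : EtModW.Mod (CR.{u} Λ) X :=
  ⟨modPre L, Presheaf.isSheaf_of_isSheaf_comp _ _ (forget₂ (ModuleCat.{u + 1} (CR.{u} Λ)) AddCommGrpCat.{u + 1})
    L.carrier.property⟩

/-- forgetting the scalars gives the abelian sheaf back -/
def toModIso (L : EtLam.Sheaf Λ X) : (lamOf Λ (toMod L)).carrier ≅ L.carrier :=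
  (fullyFaithfulSheafToPresheaf _ _).preimageIso (NatIso.ofComponents (fun U => Iso.refl _) fun {U V} f => by
    ext a
    rfl)

theorem actOf_app (G : EtModW.Mod (CR.{u} Λ) X) (r : Λ) (U : X.Etaleᵒᵖ) (a : G.obj.obj U) :
    (((lamOf Λ G).act r).hom.app U) a = (ULift.up r : CR.{u} Λ) • a := rfl

theorem toModIso_comp (L : EtLam.Sheaf Λ X) (r : Λ) :
    (lamOf Λ (toMod L)).act r ≫ (toModIso L).hom = (toModIso L).hom ≫ L.act r := by
  refine Sheaf.hom_ext (NatTrans.ext (funext fun U => ?_))
  ext a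
  rfl

/-- equivariant maps from sheaves with action -/
def homOfAct (L : EtLam.Sheaf Λ X) (G : EtModW.Mod (CR.{u} Λ) X) (a : L.carrier ⟶ (lamOf Λ G).carrier)
    (h : ∀ r, L.act r ≫ a = a ≫ (lamOf Λ G).act r) : toMod L ⟶ G :=
  ObjectProperty.homMk
    { app := fun U =>
        letI := modOn L U
        ModuleCat.ofHom (X := L.carrier.obj.obj U)
          { toFun := a.hom.app U
            map_add' := fun x y => map_add (a.hom.app U).hom x y
            map_smul' := fun r x => ConcreteCategory.congr_hom (congrArg (fun q => q.hom.app U) (h r.down)) x }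
      naturality := fun U V f => by
        ext x
        exact NatTrans.naturality_apply a.hom f x }

theorem forget_homOfAct (L : EtLam.Sheaf Λ X) (G : EtModW.Mod (CR.{u} Λ) X) (a : L.carrier ⟶ (lamOf Λ G).carrier)
    (h : ∀ r, L.act r ≫ a = a ≫ (lamOf Λ G).act r) :
    (EtModD.forgetToAb (CR.{u} Λ) X).map (homOfAct L G a h) = (toModIso L).hom ≫ a := by
  refine Sheaf.hom_ext (NatTrans.ext (funext fun U => ?_))
  ext x
  rfl

theorem map_act {G G' : EtModW.Mod (CR.{u} Λ) X} (f : G ⟶ G') (r : Λ) :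
    (lamOf Λ G).act r ≫ (EtModD.forgetToAb (CR.{u} Λ) X).map f =
      (EtModD.forgetToAb (CR.{u} Λ) X).map f ≫ (lamOf Λ G').act r := by
  refine ((EtModD.forgetToAb (CR.{u} Λ) X).map_comp _ _).symm.trans
    (Eq.trans ?_ ((EtModD.forgetToAb (CR.{u} Λ) X).map_comp _ _))
  rw [Linear.smul_comp, Linear.comp_smul, Category.id_comp, Category.comp_id]

section H

attribute [local instance] Abelian.hasFiniteBiproducts

/-- equivariant maps are linear on cohomology -/
def linH {L L' : EtLam.Sheaf Λ X} (a : L.carrier ⟶ L'.carrier) (h : ∀ r, L.act r ≫ a = a ≫ L'.act r) (q : ℕ) :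
    EtCoh.H X L.carrier q →ₗ[Λ] EtCoh.H X L'.carrier q where
  toFun := Sheaf.H.map a q
  map_add' := map_add _
  map_smul' r x := by
    show Sheaf.H.map a q (Sheaf.H.map (L.act r) q x) = Sheaf.H.map (L'.act r) q (Sheaf.H.map a q x)
    rw [← Sheaf.H.map_comp_apply, ← Sheaf.H.map_comp_apply, h]

theorem finite_of_iso {L L' : EtLam.Sheaf Λ X} (e : L.carrier ≅ L'.carrier)
    (h : ∀ r, L.act r ≫ e.hom = e.hom ≫ L'.act r) (q : ℕ) [Module.Finite Λ (EtCoh.H X L.carrier q)] :
    Module.Finite Λ (EtCoh.H X L'.carrier q) :=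
  Module.Finite.of_surjective (linH e.hom h q) fun y =>
    ⟨Sheaf.H.map e.inv q y, by
      show Sheaf.H.map e.hom q _ = y
      rw [← Sheaf.H.map_comp_apply, e.inv_hom_id, Sheaf.H.map_id_apply]⟩

variable [IsNoetherianRing Λ] {S : ShortComplex (EtModW.Mod (CR.{u} Λ) X)} (hS : S.ShortExact)

/-- finiteness in the middle of an exact triple -/
theorem finite_of_linExact {A B C : Type*} [AddCommGroup A] [AddCommGroup B] [AddCommGroup C] [Module Λ A] [Module Λ B]
    [Module Λ C] [Module.Finite Λ A] [Module.Finite Λ C] (f : A →ₗ[Λ] B) (g : B →ₗ[Λ] C)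
    (h : ∀ b, g b = 0 → ∃ a, f a = b) : Module.Finite Λ B := by
  haveI : IsNoetherian Λ C := isNoetherian_of_isNoetherianRing_of_finite Λ C
  refine ⟨Submodule.fg_of_fg_map_of_fg_inf_ker g (IsNoetherian.noetherian _) ?_⟩
  haveI : IsNoetherian Λ A := isNoetherian_of_isNoetherianRing_of_finite Λ A
  have hle : (⊤ : Submodule Λ B) ⊓ LinearMap.ker g =
      Submodule.map f (Submodule.comap f (LinearMap.ker g)) := by
    rw [top_inf_eq, Submodule.map_comap_eq_self]
    exact fun b hb => h b hb
  rw [hle]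
  exact (IsNoetherian.noetherian _).map f

include hS in
theorem shortExact_forget : (S.map (EtModD.forgetToAb (CR.{u} Λ) X)).ShortExact :=
  haveI := hS.mono_f
  haveI := hS.epi_g
  { exact := hS.exact.map _
    mono_f := show Mono ((EtModD.forgetToAb (CR.{u} Λ) X).map S.f) from inferInstance
    epi_g := show Epi ((EtModD.forgetToAb (CR.{u} Λ) X).map S.g) from inferInstance }

/-- multiplication by a scalar on an exact triple -/
def smulHom (S : ShortComplex (EtModW.Mod (CR.{u} Λ) X)) (c : CR.{u} Λ) : S ⟶ S where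
  τ₁ := c • 𝟙 S.X₁
  τ₂ := c • 𝟙 S.X₂
  τ₃ := c • 𝟙 S.X₃
  comm₁₂ := by rw [Linear.smul_comp, Linear.comp_smul, Category.id_comp, Category.comp_id]
  comm₂₃ := by rw [Linear.smul_comp, Linear.comp_smul, Category.id_comp, Category.comp_id]

include hS in
theorem extClass_act (r : Λ) :
    (shortExact_forget hS).extClass.comp (Ext.mk₀ ((lamOf Λ S.X₁).act r)) (add_zero 1) =
      (Ext.mk₀ ((lamOf Λ S.X₃).act r)).comp (shortExact_forget hS).extClass (zero_add 1) :=
  (shortExact_forget hS).extClass_naturality (shortExact_forget hS)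
    ((EtModD.forgetToAb (CR.{u} Λ) X).mapShortComplex.map (smulHom S (ULift.up r)))

/-- the boundary is linear -/
def deltaLin (q : ℕ) :
    EtCoh.H X (lamOf Λ S.X₃).carrier q →ₗ[Λ] EtCoh.H X (lamOf Λ S.X₁).carrier (q + 1) where
  toFun z := z.comp (shortExact_forget hS).extClass (rfl : q + 1 = q + 1)
  map_add' a b := Ext.add_comp _ _ _ _
  map_smul' r x := by
    refine (congrArg (fun t : EtCoh.H X (lamOf Λ S.X₃).carrier q =>
      t.comp (shortExact_forget hS).extClass (rfl : q + 1 = q + 1)) (Sheaf.H.map_apply ((lamOf Λ S.X₃).act r) x)).trans ?_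
    refine Eq.trans ?_ (Sheaf.H.map_apply ((lamOf Λ S.X₁).act r) _).symm
    refine (Ext.comp_assoc_of_second_deg_zero _ _ _ _).trans ?_
    refine Eq.trans ?_ (Ext.comp_assoc_of_third_deg_zero _ _ _ _).symm
    exact congrArg (fun t => x.comp t (rfl : q + 1 = q + 1)) (extClass_act hS r).symm

include hS in
theorem exact_middle (q : ℕ) (z : EtCoh.H X (lamOf Λ S.X₂).carrier q)
    (hz : linH (L := lamOf Λ S.X₂) (L' := lamOf Λ S.X₃) _ (map_act S.g) q z = 0) :
    ∃ y, linH (L := lamOf Λ S.X₁) (L' := lamOf Λ S.X₂) _ (map_act S.f) q y = z :=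
  @CurveKummer.exists_map_f_of_map_g X (S.map (EtModD.forgetToAb (CR.{u} Λ) X)) (shortExact_forget hS) q z hz

include hS in
theorem finite_middle (q : ℕ) [Module.Finite Λ (EtCoh.H X (lamOf Λ S.X₁).carrier q)]
    [Module.Finite Λ (EtCoh.H X (lamOf Λ S.X₃).carrier q)] :
    Module.Finite Λ (EtCoh.H X (lamOf Λ S.X₂).carrier q) :=
  finite_of_linExact (linH (L := lamOf Λ S.X₁) (L' := lamOf Λ S.X₂) _ (map_act S.f) q)
    (linH (L := lamOf Λ S.X₂) (L' := lamOf Λ S.X₃) _ (map_act S.g) q) (exact_middle hS q)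

include hS in
theorem exact_right (q : ℕ) (z : EtCoh.H X (lamOf Λ S.X₃).carrier q) (hz : deltaLin hS q z = 0) :
    ∃ y, linH (L := lamOf Λ S.X₂) (L' := lamOf Λ S.X₃) _ (map_act S.g) q y = z :=
  @CurveKummer.exists_map_g_of_delta X (S.map (EtModD.forgetToAb (CR.{u} Λ) X)) (shortExact_forget hS) q z hz

include hS in
theorem finite_right (q : ℕ) [Module.Finite Λ (EtCoh.H X (lamOf Λ S.X₂).carrier q)]
    [Module.Finite Λ (EtCoh.H X (lamOf Λ S.X₁).carrier (q + 1))] :
    Module.Finite Λ (EtCoh.H X (lamOf Λ S.X₃).carrier q) :=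
  finite_of_linExact (linH (L := lamOf Λ S.X₂) (L' := lamOf Λ S.X₃) _ (map_act S.g) q) (deltaLin hS q)
    (exact_right hS q)

theorem finite_biproduct {n : ℕ} (G : Fin n → EtModW.Mod (CR.{u} Λ) X) (q : ℕ)
    (h : ∀ i, Module.Finite Λ (EtCoh.H X (lamOf Λ (G i)).carrier q)) :
    Module.Finite Λ (EtCoh.H X (lamOf Λ (⨁ G)).carrier q) := by
  classical
  let π : EtCoh.H X (lamOf Λ (⨁ G)).carrier q →ₗ[Λ] ∀ i, EtCoh.H X (lamOf Λ (G i)).carrier q :=
    LinearMap.pi fun i => linH _ (map_act (biproduct.π G i)) q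
  haveI : IsNoetherian Λ (∀ i, EtCoh.H X (lamOf Λ (G i)).carrier q) :=
    isNoetherian_of_isNoetherianRing_of_finite Λ _
  refine Module.Finite.of_injective π fun a b hab => ?_
  have hd : ∀ ξ : EtCoh.H X (lamOf Λ (⨁ G)).carrier q,
      ξ = ∑ i : Fin n, Sheaf.H.map ((EtModD.forgetToAb (CR.{u} Λ) X).map (biproduct.ι G i)) q (π ξ i) := fun ξ => by
    have e : 𝟙 (lamOf Λ (⨁ G)).carrier = ∑ i : Fin n, (EtModD.forgetToAb (CR.{u} Λ) X).map (biproduct.π G i) ≫
        (EtModD.forgetToAb (CR.{u} Λ) X).map (biproduct.ι G i) := by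
      simp only [← Functor.map_comp, ← Functor.map_sum, biproduct.total]
      exact ((EtModD.forgetToAb (CR.{u} Λ) X).map_id _).symm
    conv_lhs => rw [← Sheaf.H.map_id_apply (x := ξ)]
    rw [e, Sheaf.H.map_apply, Ext.mk₀_sum, Ext.comp_sum]
    refine Finset.sum_congr rfl fun i _ => ?_
    show _ = Sheaf.H.map _ q (Sheaf.H.map _ q ξ)
    rw [← Sheaf.H.map_comp_apply, Sheaf.H.map_apply]
  rw [hd a, hd b]
  exact Finset.sum_congr rfl fun i _ => congrArg _ (congrFun hab i)

end H

end Groth.Agent.EtLamFin
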