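import Groth.Agent.EtFound.Crit
import Groth.Agent.ModWLib.TensorConstr
import Groth.Agent.ModWLib.ConstrSerre

/-!
# A pointwise criterion for constructibility of sheaves of modules
-/

set_option autoImplicit false
set_option linter.style.haveILetI false

universe u

open CategoryTheory CategoryTheory.Limits AlgebraicGeometry Opposite Topology Groth.Agent.EtFound

noncomputable section

namespace Groth.Agent.EtLamFin

open Groth.Agent

set_option backward.isDefEq.respectTransparency false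
set_option backward.isDefEq.respectTransparency.types false

variable {Λ : Type (u + 1)} [CommRing Λ] {X : Scheme.{u}}

/-- a linear family of sections inducing the stalks along a constructible neighbourhood of a point gives a constructible piece -/
theorem exists_piece_of_good {F : EtModW.Mod Λ X} {V : X.Opens} (hV : IsAffineOpen V) {U : X.Etale} {Ω : Type u} [Field Ω]
    [IsSepClosed Ω] {ξ : Spec (CommRingCat.of Ω) ⟶ X} (u : (Scheme.pointSmallEtale ξ).fiber.obj U)
    {A : U.left.Opens} (hA : IsAffineOpen A) (hAV : A ≤ U.hom ⁻¹ᵁ V) (hpA : ptOf u ∈ A)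
    {M : ModuleCat.{u + 1} Λ} [Module.Finite Λ M] (φ : M ⟶ F.obj.obj (op U))
    {Good : Set ↥(A : Set U.left)} (hGood : IsConstructible Good) (hpGood : (⟨ptOf u, hpA⟩ : ↥(A : Set U.left)) ∈ Good)
    (hgood : ∀ {k : Type u} [Field k] [IsAlgClosed k] {η : Spec (CommRingCat.of k) ⟶ X}
      (z : (Scheme.pointSmallEtale η).fiber.obj U), (∃ a ∈ Good, a.1 = ptOf z) →
        Function.Bijective (φ ≫ (Scheme.pointSmallEtale η).toPresheafFiber U z F.obj)) :
    ∃ E : Set X, ξ.base (default : Spec (CommRingCat.of Ω)) ∈ E ∧ ModWLib.IsPiece F E ∧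
      IsConstructible ((Subtype.val : ↥(V : Set X) → X) ⁻¹' E) := by
  have : AlgebraicGeometry.Etale U.hom := U.prop
  have : CompactSpace ↥(A : Set U.left) := isCompact_iff_compactSpace.1 hA.isCompact
  have : QuasiSeparatedSpace ↥(A : Set U.left) :=
    (isQuasiSeparated_iff_quasiSeparatedSpace _ A.2).1 hA.isQuasiSeparated
  have : PrespectralSpace ↥(A : Set U.left) := A.2.isOpenEmbedding_subtypeVal.prespectralSpace
  have : QuasiSober ↥(A : Set U.left) := A.2.isOpenEmbedding_subtypeVal.quasiSober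
  have : CompactSpace ↥(V : Set X) := isCompact_iff_compactSpace.1 hV.isCompact
  have : QuasiSeparatedSpace ↥(V : Set X) := (isQuasiSeparated_iff_quasiSeparatedSpace _ V.2).1 hV.isQuasiSeparated
  have : PrespectralSpace ↥(V : Set X) := V.2.isOpenEmbedding_subtypeVal.prespectralSpace
  have : QuasiSober ↥(V : Set X) := V.2.isOpenEmbedding_subtypeVal.quasiSober
  let val : ↥(A : Set U.left) → U.left := Subtype.val
  let π : ↥(A : Set U.left) → ↥(V : Set X) := fun a => ⟨U.hom.base a.1, hAV a.2⟩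
  have hπ : Continuous π := (U.hom.continuous.comp continuous_subtype_val).subtype_mk _
  let p : ↥(A : Set U.left) := ⟨ptOf u, hpA⟩
  -- an open of `A` meeting the fibre only in the point
  have hfib : (π ⁻¹' {π p} \ {p}).Finite := by
    have : IsAffine A.toScheme := hA
    have : IsAffine V.toScheme := hV
    let f : A.toScheme ⟶ V.toScheme := Scheme.Hom.resLE U.hom V A hAV
    have hf : LocallyQuasiFinite f := by
      rw [HasRingHomProperty.iff_appLE (P := @LocallyQuasiFinite)]
      intro U₀ W₀ e'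
      have := HasRingHomProperty.appLE @AlgebraicGeometry.Etale f inferInstance U₀ W₀ e'
      algebraize [(f.appLE U₀.1 W₀.1 e').hom]
      exact (inferInstance : Algebra.QuasiFinite Γ(V.toScheme, U₀.1) Γ(A.toScheme, W₀.1))
    have : QuasiCompact f := (quasiCompact_iff_compactSpace f).2 inferInstance
    refine (f.finite_preimage_singleton (π p)).subset fun q hq => ?_
    refine Set.mem_singleton_iff.2 (Subtype.ext ?_)
    refine Eq.trans ?_ (congrArg Subtype.val hq.1)
    show V.ι.base (f.base q) = U.hom.base q.1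
    rw [← Scheme.Hom.comp_apply, Scheme.Hom.resLE_comp_ι]
    exact Scheme.Hom.comp_apply _ _ _
  have hsep : ∀ q ∈ π ⁻¹' {π p} \ {p}, ∃ O : Set ↥(A : Set U.left), IsOpen O ∧ p ∈ O ∧ q ∉ O := fun q hq => by
    by_contra h
    push Not at h
    have hs : val q ⤳ val p := (specializes_iff_forall_open.2 fun O hO hp => h O hO hp).map continuous_subtype_val
    exact hq.2 (Subtype.ext (eq_of_specializes U hs (congrArg Subtype.val hq.1)))
  choose! O hO hpO hqO using hsep
  obtain ⟨O', hO', hO'c, hpO', hO'O⟩ := SpecLib.exists_qc (x := p)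
    (O := ⋂ q ∈ π ⁻¹' {π p} \ {p}, O q) (Set.mem_iInter₂.2 hpO) (hfib.isOpen_biInter hO)
  -- some constructible neighbourhood of the point pulls back into the good locus
  obtain ⟨E, ⟨hEc, hElc, hyE⟩, hEgood⟩ : ∃ E : Set ↥(V : Set X),
      (IsConstructible E ∧ IsLocallyClosed E ∧ π p ∈ E) ∧ O' ∩ π ⁻¹' E ⊆ Good := by
    by_contra hno
    push Not at hno
    let I := {E : Set ↥(V : Set X) // IsConstructible E ∧ IsLocallyClosed E ∧ π p ∈ E}
    haveI : Nonempty I := ⟨⟨Set.univ, IsConstructible.univ, isOpen_univ.isLocallyClosed, trivial⟩⟩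
    have hpre : ∀ E : I, IsConstructible (π ⁻¹' E.1) := fun E => by
      have h1 : IsConstructible ((Subtype.val : ↥(V : Set X) → X) ⁻¹' (Subtype.val '' E.1)) := by
        rw [Set.preimage_image_eq _ Subtype.val_injective]
        exact E.2.1
      have h2 := isConstructible_preimage_affine U.hom hA hV hAV h1
      refine Eq.mp (congrArg IsConstructible ?_) h2
      ext a
      exact ⟨fun ⟨b, hb, e⟩ => show π a ∈ E.1 from Set.mem_of_eq_of_mem (Subtype.ext e.symm : π a = b) hb, fun ha => ⟨π a, ha, rfl⟩⟩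
    obtain ⟨q, hq⟩ := SpecLib.CC.nonempty_iInter (fun E : I => (O' ∩ π ⁻¹' E.1) \ Good)
      (fun E E' => ⟨⟨E.1 ∩ E'.1, E.2.1.inter E'.2.1, E.2.2.1.inter E'.2.2.1, E.2.2.2, E'.2.2.2⟩,
        fun a ha => ⟨⟨ha.1.1, ha.1.2.1⟩, ha.2⟩, fun a ha => ⟨⟨ha.1.1, ha.1.2.2⟩, ha.2⟩⟩)
      (fun E => by
        obtain ⟨a, ha, ha'⟩ := Set.not_subset.1 (hno E.1 E.2)
        exact ⟨a, ha, ha'⟩)
      (fun E => ((SpecLib.cc_of_isOpen_isCompact hO' hO'c).inter (SpecLib.cons_clopen (hpre E)).1).inter
        (SpecLib.cons_clopen hGood.compl).1)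
    rw [Set.mem_iInter] at hq
    have hq0 := hq (Classical.arbitrary I)
    have hqp : π q = π p := by
      by_contra hne
      obtain ⟨W, hW, hWc, hWne⟩ := SpecLib.exists_qc_separating hne
      have hWC := (IsCompact.isRetrocompact hWc hW).isConstructible hW
      by_cases hy : π p ∈ W
      · exact hWne (iff_of_true (hq ⟨W, hWC, hW.isLocallyClosed, hy⟩).1.2 hy)
      · exact (hq ⟨Wᶜ, hWC.compl, hW.isClosed_compl.isLocallyClosed, hy⟩).1.2
          (by_contra fun hq' => hWne (iff_of_false hq' hy))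
    by_cases hqe : q = p
    · exact hq0.2 (hqe ▸ hpGood)
    · exact hqO q ⟨hqp, hqe⟩ (Set.mem_iInter₂.1 (hO'O hq0.1.1) q ⟨hqp, hqe⟩)
  -- the stratum
  let W : U.left.Opens := ⟨val '' O', A.2.isOpenMap_subtype_val _ hO'⟩
  let E' : Set X := Subtype.val '' E ∩ U.hom.base '' (W : Set U.left)
  have hlc : IsLocallyClosed E' :=
    (hElc.image IsInducing.subtypeVal (by rw [Subtype.range_coe]; exact V.2.isLocallyClosed)).inter
      (U.hom.isOpenMap (W : Set U.left) W.2).isLocallyClosed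
  obtain ⟨T, g, hg, hr⟩ := exists_immersion_range hlc
  refine ⟨E', ⟨⟨π p, hyE, hom_ptOf u⟩, ptOf u, ⟨p, hpO', rfl⟩, hom_ptOf u⟩, ⟨T, g, hg, hr, ?_⟩, ?_⟩
  · let U' : X.Etale := Scheme.Etale.mk (W.ι ≫ U.hom)
    let r : U' ⟶ U := MorphismProperty.Over.homMk W.ι rfl
    refine ModWLib.isFTLocConst_of_constBy _ fun t => ?_
    obtain ⟨q, hq, hqe⟩ := (hr.le ⟨t, rfl⟩).2
    obtain ⟨w, -, hw⟩ := Scheme.Pullback.exists_preimage_pullback (f := U'.hom) (g := g) (⟨q, hq⟩ : W.toScheme) t
      ((Scheme.Hom.comp_apply _ _ _).trans hqe)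
    refine ⟨(EtCoh.bc g).obj U', w, M, inferInstance, ModWLib.pulled g F (𝟙 _) (φ ≫ F.obj.map r.op), hw,
      fun k _ _ ζ z => ?_⟩
    refine (ModWLib.bijective_pulled_iff F (𝟙 _) (φ ≫ F.obj.map r.op) ζ z).2 ?_
    generalize hz'0 : bcFiberEquiv g ζ U' ((Scheme.pointSmallEtale ζ).fiber.map (𝟙 _) z) = z'
    have hzT : U'.hom.base (ptOf z') ∈ Set.range g.base :=
      ⟨ζ.base (default : Spec (CommRingCat.of k)), (Scheme.Hom.comp_apply _ _ _).symm.trans (hom_ptOf _).symm⟩
    obtain ⟨a, ha, hae⟩ : ptOf ((Scheme.pointSmallEtale (ζ ≫ g)).fiber.map r z') ∈ W :=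
      (ptOf_map r z').symm ▸ (ptOf z').2
    have hb := hgood ((Scheme.pointSmallEtale (ζ ≫ g)).fiber.map r z') ⟨a, hEgood ⟨ha, ?_⟩, hae⟩
    · refine Eq.mp (congrArg Function.Bijective (funext fun m => ?_)) hb
      exact ((Scheme.pointSmallEtale (ζ ≫ g)).toPresheafFiber_w_apply r z' F.obj (φ m)).symm
    · obtain ⟨b, hb, hbe⟩ := (hr.le hzT).1
      have h1 : W.ι.base (ptOf z') = val a := (ptOf_map r z').symm.trans hae.symm
      have : b = π a := Subtype.ext (hbe.trans ((Scheme.Hom.comp_apply _ _ _).trans (congrArg U.hom.base h1)))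
      show π a ∈ E
      exact this ▸ hb
  · have hc' : IsCompact (π '' O') := hO'c.image hπ
    have ho' : IsOpen (π '' O') := by
      have h1 : π '' O' = Subtype.val ⁻¹' (U.hom.base '' (W : Set U.left)) := by
        ext b
        constructor
        · rintro ⟨a, ha, rfl⟩
          exact ⟨a.1, ⟨a, ha, rfl⟩, rfl⟩
        · rintro ⟨_, ⟨a, ha, rfl⟩, e⟩
          exact ⟨a, ha, Subtype.ext e⟩
      rw [h1]
      exact (U.hom.isOpenMap (W : Set U.left) W.2).preimage continuous_subtype_val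
    refine Eq.mp (congrArg IsConstructible ?_) (hEc.inter ((IsCompact.isRetrocompact hc' ho').isConstructible ho'))
    ext b
    constructor
    · rintro ⟨hb, a, ha, rfl⟩
      exact ⟨⟨π a, hb, rfl⟩, a.1, ⟨a, ha, rfl⟩, rfl⟩
    · rintro ⟨⟨b', hb', e⟩, _, ⟨a, ha, rfl⟩, e'⟩
      exact ⟨Subtype.ext e ▸ hb', a, ha, Subtype.ext e'⟩

/-- constructibility from constructible pieces through all points -/
theorem isConstructible_of_pieces {F : EtModW.Mod Λ X} (h : ∀ (V : X.Opens), IsAffineOpen V → ∀ y : X, y ∈ V →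
    ∃ E : Set X, y ∈ E ∧ ModWLib.IsPiece F E ∧ IsConstructible ((Subtype.val : ↥(V : Set X) → X) ⁻¹' E)) :
    EtModW.IsConstructible Λ F := by
  intro V hV
  have : CompactSpace ↥(V : Set X) := isCompact_iff_compactSpace.1 hV.isCompact
  have : QuasiSeparatedSpace ↥(V : Set X) := (isQuasiSeparated_iff_quasiSeparatedSpace _ V.2).1 hV.isQuasiSeparated
  have : PrespectralSpace ↥(V : Set X) := V.2.isOpenEmbedding_subtypeVal.prespectralSpace
  have : QuasiSober ↥(V : Set X) := V.2.isOpenEmbedding_subtypeVal.quasiSober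
  choose E hyE hE hEc using fun y : ↥(V : Set X) => h V hV y.1 y.2
  obtain ⟨t, ht⟩ := exists_finite_cover (fun y => Subtype.val ⁻¹' E y) hEc fun y => ⟨y, hyE y⟩
  refine ModWLib.adaptedStrata_of_cover V.2.isLocallyClosed (fun k : t => E k.1) (fun k => hE _) (fun k => hEc _)
    fun x hx => ?_
  obtain ⟨k, hk, hxk⟩ := ht ⟨x, hx⟩
  exact Set.mem_iUnion.2 ⟨⟨k, hk⟩, hxk⟩

end Groth.Agent.EtLamFin
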