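import Groth.Agent.EtLamFin.Bridge
import Groth.Agent.ModWLib.Noeth
import Groth.Agent.ModWLib.Ext
import Groth.Agent.ModWLib.Transfer
import Groth.Agent.EtPBCDMod.Forget

/-!
# Constructible sheaves with action give constructible sheaves of modules
-/

set_option autoImplicit false
set_option maxHeartbeats 800000
set_option linter.style.haveILetI false
set_option linter.unusedSectionVars false
set_option backward.isDefEq.respectTransparency false
set_option backward.isDefEq.respectTransparency.types false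

universe u

open CategoryTheory CategoryTheory.Limits AlgebraicGeometry Opposite Groth.Agent.EtFound

noncomputable section

namespace Groth.Agent.EtLamFin

open Groth.Agent

variable {Λ : Type} [CommRing Λ] {X : Scheme.{u}}

/-- germs bijective for the abelian sheaf give germs bijective for the sheaf of modules -/
theorem bijective_germ_iff (G : EtModW.Mod (CR.{u} Λ) X) {U : X.Etale} {Ω : Type u} [Field Ω] [IsSepClosed Ω]
    (ξ : Spec (CommRingCat.of Ω) ⟶ X) (z : (Scheme.pointSmallEtale ξ).fiber.obj U) {M : Type*} (φ : M → G.obj.obj (op U)) :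
    Function.Bijective (fun m => (Scheme.pointSmallEtale ξ).toPresheafFiber U z G.obj (φ m)) ↔
      Function.Bijective (fun m => (Scheme.pointSmallEtale ξ).toPresheafFiber U z
        ((EtModD.forgetToAb (CR.{u} Λ) X).obj G).obj (φ m)) := by
  haveI := EtPBCDMod.preservesFilteredColimits_forget₂ (CR.{u} Λ)
  let F₂ := forget₂ (ModuleCat.{u + 1} (CR.{u} Λ)) AddCommGrpCat.{u + 1}
  let b := ((Scheme.pointSmallEtale ξ).sheafFiberCompIso F₂).app G
  have h : ∀ m, b.hom ((Scheme.pointSmallEtale ξ).toPresheafFiber U z (G.obj ⋙ F₂) (φ m)) =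
      (Scheme.pointSmallEtale ξ).toPresheafFiber U z G.obj (φ m) := fun m =>
    ConcreteCategory.congr_hom
      ((Scheme.pointSmallEtale ξ).toPresheafFiber_presheafFiberCompIso_hom_app F₂ U z G.obj) (φ m)
  have hb : Function.Bijective b.hom := b.addCommGroupIsoToAddEquiv.bijective
  constructor
  · intro h1
    exact (Function.Bijective.of_comp_iff' hb _).1 (Eq.mp (congrArg Function.Bijective (funext fun m => (h m).symm)) h1)
  · intro h1
    exact Eq.mp (congrArg Function.Bijective (funext h)) (hb.comp h1)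

variable {A : Type (u + 2)} [Category.{u + 1} A] [HasColimitsOfSize.{u, u} A]
  {FA : A → A → Type*} {CA : A → Type (u + 1)}
  [∀ M N, FunLike (FA M N) (CA M) (CA N)] [ConcreteCategory.{u + 1} A FA]
  [PreservesFilteredColimitsOfSize.{u, u} (forget A)]
  [∀ U : X.Etale, HasWeakSheafify (X.smallEtaleTopology.over U) A]
  [∀ U : X.Etale, (X.smallEtaleTopology.over U).WEqualsLocallyBijective A]

/-- the family of sections of an isomorphism with a constant sheaf -/
def secOfIso (F : Sheaf X.smallEtaleTopology A) {U : X.Etale} {M : A}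
    (e : F.over U ≅ (constantSheaf (X.smallEtaleTopology.over U) A).obj M) : M ⟶ F.obj.obj (op U) :=
  (toSheafify (X.smallEtaleTopology.over U) ((Functor.const (Over U)ᵒᵖ).obj M) ≫ e.inv.hom).app (op (Over.mk (𝟙 U)))

theorem constBy_secOfIso (F : Sheaf X.smallEtaleTopology A) {U : X.Etale} {M : A}
    (e : F.over U ≅ (constantSheaf (X.smallEtaleTopology.over U) A).obj M) : ConstBy F (secOfIso F e) := by
  let J := X.smallEtaleTopology.over U
  let η : (Functor.const (Over U)ᵒᵖ).obj M ⟶ (F.over U).obj := toSheafify J _ ≫ e.inv.hom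
  have : IsIso e.inv.hom := inferInstanceAs (IsIso ((sheafToPresheaf _ _).map e.inv))
  have hW : J.W η := MorphismProperty.RespectsIso.postcomp _ e.inv.hom _ (J.W_toSheafify _)
  obtain ⟨hinj, hsurj⟩ := (J.W_iff_isLocallyBijective η).1 hW
  intro Ω _ _ ξ u₀
  show Function.Bijective (η.app (op (Over.mk (𝟙 U))) ≫ _)
  let Φ := Scheme.pointSmallEtale ξ
  let φ : M ⟶ Φ.presheafFiber.obj F.obj := η.app (op (Over.mk (𝟙 U))) ≫ Φ.toPresheafFiber U u₀ F.obj
  have key : ∀ (W : Over U) (w : Φ.fiber.obj W.left) (m : ToType M), Φ.fiber.map W.hom w = u₀ →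
      φ m = Φ.toPresheafFiber W.left w F.obj (η.app (op W) m) := by
    intro W w m hw
    have h2 : η.app (op W) m = F.obj.map W.hom.op (η.app (op (Over.mk (𝟙 U))) m) :=
      (congrArg _ (ConcreteCategory.id_apply m).symm).trans
        (NatTrans.naturality_apply η (Over.homMk W.hom : W ⟶ Over.mk (𝟙 U)).op m)
    rw [h2, Φ.toPresheafFiber_w_apply, hw]
    exact ConcreteCategory.comp_apply _ _ m
  refine ⟨fun m m' h => ?_, fun p => ?_⟩
  · simp only [ConcreteCategory.comp_apply] at h
    obtain ⟨V, g, v, hv, hg⟩ := (Φ.toPresheafFiber_eq_iff' U u₀ _ _).1 h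
    have h3 : η.app (op (Over.mk g)) m = η.app (op (Over.mk g)) m' :=
      (congrArg _ (ConcreteCategory.id_apply m).symm).trans
        ((NatTrans.naturality_apply η (Over.homMk g : Over.mk g ⟶ Over.mk (𝟙 U)).op m).trans
          (hg.trans ((NatTrans.naturality_apply η (Over.homMk g : Over.mk g ⟶ Over.mk (𝟙 U)).op m').symm.trans
            (congrArg _ (ConcreteCategory.id_apply m')))))
    have hS := Presheaf.equalizerSieve_mem J η _ _ h3
    rw [GrothendieckTopology.mem_over_iff] at hS
    obtain ⟨W, f, hf, -, -⟩ := Φ.jointly_surjective _ hS v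
    rw [Sieve.overEquiv_iff] at hf
    exact (ConcreteCategory.id_apply m).symm.trans (hf.trans (ConcreteCategory.id_apply m'))
  · obtain ⟨V, v, s, rfl⟩ := Φ.toPresheafFiber_jointly_surjective p
    obtain ⟨⟨T, t⟩, ⟨a₀, ha₀⟩, ⟨b₀, hb₀⟩, -⟩ := IsCofilteredOrEmpty.cone_objs
      (Φ.fiber.elementsMk V v) (Φ.fiber.elementsMk U u₀)
    obtain ⟨a, ha⟩ : ∃ a : T ⟶ V, Φ.fiber.map a t = v := ⟨a₀, ha₀⟩
    obtain ⟨b, hb⟩ : ∃ b : T ⟶ U, Φ.fiber.map b t = u₀ := ⟨b₀, hb₀⟩
    have hS := Presheaf.imageSieve_mem J η (U := op (Over.mk b)) (F.obj.map a.op s)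
    rw [GrothendieckTopology.mem_over_iff] at hS
    obtain ⟨W, f, hf, w, hw⟩ := Φ.jointly_surjective _ hS t
    rw [Sieve.overEquiv_iff] at hf
    obtain ⟨m, hm⟩ := hf
    refine ⟨m, ?_⟩
    refine (key (Over.mk (f ≫ b)) w m ((Functor.map_comp_apply _ _ _ _).trans
      ((congrArg _ hw).trans hb))).trans ?_
    refine (congrArg (Φ.toPresheafFiber W w F.obj) hm).trans ?_
    refine (Φ.toPresheafFiber_w_apply f w F.obj _).trans ?_
    rw [hw]
    refine (Φ.toPresheafFiber_w_apply a t F.obj _).trans ?_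
    erw [ha]

theorem secOfIso_natural {F : Sheaf X.smallEtaleTopology A} {U : X.Etale} {M : A}
    (e : F.over U ≅ (constantSheaf (X.smallEtaleTopology.over U) A).obj M) (a : F ⟶ F) (μ : M ⟶ M)
    (h : (X.smallEtaleTopology.overPullback A U).map a ≫ e.hom =
      e.hom ≫ (constantSheaf (X.smallEtaleTopology.over U) A).map μ) :
    μ ≫ secOfIso F e = secOfIso F e ≫ a.hom.app (op U) := by
  have h' : e.inv ≫ (X.smallEtaleTopology.overPullback A U).map a =
      (constantSheaf (X.smallEtaleTopology.over U) A).map μ ≫ e.inv :=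
    (Iso.eq_comp_inv _).2 ((Category.assoc _ _ _).trans ((congrArg (e.inv ≫ ·) h).trans (e.inv_hom_id_assoc _)))
  have h1 : (Functor.const (Over U)ᵒᵖ).map μ ≫ toSheafify (X.smallEtaleTopology.over U) ((Functor.const (Over U)ᵒᵖ).obj M)
      ≫ e.inv.hom = toSheafify _ _ ≫ e.inv.hom ≫ ((X.smallEtaleTopology.overPullback A U).map a).hom := by
    refine (Category.assoc _ _ _).symm.trans
      ((congrArg (· ≫ e.inv.hom) (toSheafify_naturality _ _)).trans ((Category.assoc _ _ _).trans ?_))
    exact congrArg (toSheafify _ _ ≫ ·) (congrArg (fun t => t.hom) h').symm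
  have h2 := congrArg (fun t => t.app (op (Over.mk (𝟙 U)))) h1
  simp only [NatTrans.comp_app, Category.assoc] at h2 ⊢
  refine h2.trans ?_
  exact (Category.assoc _ _ _).symm

theorem module_finite_ulift (M : Type) [AddCommGroup M] [Module Λ M] [Module.Finite Λ M] :
    Module.Finite (CR.{u} Λ) (ULift.{u + 1} M) := by
  haveI : Module.Finite Λ (ULift.{u + 1} M) := Module.Finite.equiv ULift.moduleEquiv.symm
  exact Module.Finite.of_restrictScalars_finite Λ (CR.{u} Λ) (ULift.{u + 1} M)

/-- locally constant sheaves with action give locally constant sheaves of modules -/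
theorem isFTLocConst_of_isFTLC (L : EtLam.Sheaf Λ X) (hL : EtLam.IsFTLC L) (G : EtModW.Mod (CR.{u} Λ) X)
    (e : L.carrier ≅ (lamOf Λ G).carrier) (he : ∀ r, L.act r ≫ e.hom = e.hom ≫ (lamOf Λ G).act r) :
    EtModW.IsFTLocConst (CR.{u} Λ) G := by
  obtain ⟨ι, U, hU, h⟩ := hL
  refine ModWLib.isFTLocConst_of_constBy G fun x => ?_
  obtain ⟨i, p, hp⟩ := hU x
  obtain ⟨M, _, _, _, eM, hM⟩ := h i
  let f : AddCommGrpCat.of (ULift.{u + 1} M) ⟶ (lamOf Λ G).carrier.obj.obj (op (U i)) :=
    secOfIso L.carrier eM ≫ e.hom.hom.app (op (U i))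
  have hf : ∀ (r : Λ) (m : ULift.{u + 1} M), f (r • m) = (ULift.up r : CR.{u} Λ) • (show G.obj.obj (op (U i)) from f m) := fun r m => by
    have h1 := ConcreteCategory.congr_hom (secOfIso_natural eM (L.act r)
      (AddCommGrpCat.ofHom (DistribSMul.toAddMonoidHom (ULift.{u + 1} M) r)) (hM r)) m
    have h2 := ConcreteCategory.congr_hom (congrArg (fun t => t.hom.app (op (U i))) (he r)) (secOfIso L.carrier eM m)
    refine (congrArg (e.hom.hom.app (op (U i))) h1).trans ?_
    exact h2
  let φ : ModuleCat.of (CR.{u} Λ) (ULift.{u + 1} M) ⟶ G.obj.obj (op (U i)) :=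
    ModuleCat.ofHom { toFun := fun m => f m, map_add' := fun a b => map_add f.hom a b, map_smul' := fun r m => hf r.down m }
  haveI := module_finite_ulift (Λ := Λ) M
  refine ⟨U i, p, ModuleCat.of (CR.{u} Λ) (ULift.{u + 1} M), inferInstance, φ, hp, fun Ω _ _ ξ z => ?_⟩
  refine (bijective_germ_iff G ξ z (fun m => φ m)).2 ?_
  haveI : IsIso ((EtCoh.stalk ξ).map e.hom) := inferInstance
  have hb : Function.Bijective (((EtCoh.stalk ξ).map e.hom) ∘
      fun m => (secOfIso L.carrier eM ≫ (Scheme.pointSmallEtale ξ).toPresheafFiber (U i) z L.carrier.obj) m) :=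
    ((ConcreteCategory.isIso_iff_bijective _).1 inferInstance).comp (constBy_secOfIso L.carrier eM Ω ξ z)
  refine Eq.mp (congrArg Function.Bijective (funext fun m => ?_)) hb
  exact (Scheme.pointSmallEtale ξ).toPresheafFiber_naturality_apply e.hom.hom (U i) z (secOfIso L.carrier eM m)

/-- inverse images of sheaves of modules are linear -/
theorem linear_pull {Y : Scheme.{u}} (g : Y ⟶ X) : (EtModW.pull (CR.{u} Λ) g).Linear (CR.{u} Λ) := by
  haveI : (EtModW.push (CR.{u} Λ) g).Linear (CR.{u} Λ) := { map_smul := fun _ _ => rfl }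
  haveI : (EtModW.pull (CR.{u} Λ) g).Additive := (EtSix.pullPushModAdj (CR.{u} Λ) g).left_adjoint_additive
  exact ModWLib.linear_of_leftAdjoint (EtSix.pullPushModAdj (CR.{u} Λ) g)

/-- constructible sheaves with action give constructible sheaves of modules -/
theorem isConstructible_toMod (L : EtLam.Sheaf Λ X) (hL : EtLam.IsConstructible L) :
    EtModW.IsConstructible (CR.{u} Λ) (toMod L) := by
  intro W hW
  obtain ⟨n, T, g, hg, hc, hd, hu, hT⟩ := hL W hW
  refine ⟨n, T, g, hg, hc, hd, hu, fun i => ?_⟩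
  haveI : (EtCoh.pull (g i)).Additive := (EtCoh.pullPushAdj (g i)).left_adjoint_additive
  haveI := linear_pull (Λ := Λ) (g i)
  haveI : (EtModW.pull (CR.{u} Λ) (g i)).Additive := (EtSix.pullPushModAdj (CR.{u} Λ) (g i)).left_adjoint_additive
  refine isFTLocConst_of_isFTLC _ (hT i) _
    ((EtCoh.pull (g i)).mapIso (toModIso L).symm ≪≫ asIso (EtPBCDMod.kappa (CR.{u} Λ) (g i) (toMod L))) fun r => ?_
  have h1 : L.act r ≫ (toModIso L).inv = (toModIso L).inv ≫ (lamOf Λ (toMod L)).act r :=
    (Iso.eq_inv_comp _).2 ((Category.assoc _ _ _).symm.trans ((Iso.comp_inv_eq _).2 (toModIso_comp L r).symm))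
  have h2 := EtPBCDMod.kappa_naturality (CR.{u} Λ) (g i) ((ULift.up r : CR.{u} Λ) • 𝟙 (toMod L))
  rw [Functor.map_smul (F := EtModW.pull (CR.{u} Λ) (g i)), CategoryTheory.Functor.map_id] at h2
  simp only [Iso.trans_hom, Functor.mapIso_hom, Iso.symm_hom, asIso_hom]
  refine (Category.assoc _ _ _).symm.trans ?_
  refine (congrArg (· ≫ EtPBCDMod.kappa (CR.{u} Λ) (g i) (toMod L))
    (((EtCoh.pull (g i)).map_comp _ _).symm.trans ((congrArg (EtCoh.pull (g i)).map h1).trans
      ((EtCoh.pull (g i)).map_comp _ _)))).trans ?_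
  refine (Category.assoc _ _ _).trans ((congrArg (_ ≫ ·) h2).trans (Category.assoc _ _ _).symm)

end Groth.Agent.EtLamFin
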