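import Groth.Agent.EtLamFin.ExtZero
import Groth.Agent.EtCurveFin.Main
import Groth.Agent.EtTorLib.TorsorKill
import Groth.Agent.S0099
import Mathlib.LinearAlgebra.Dimension.Free
import Mathlib.Algebra.Module.ZMod
import Mathlib.LinearAlgebra.Basis.VectorSpace

/-!
# Free sheaves of modules killed by a prime, and their cohomology
-/

set_option autoImplicit false
set_option maxHeartbeats 800000
set_option linter.style.haveILetI false
set_option linter.unusedSectionVars false
set_option backward.isDefEq.respectTransparency false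
set_option backward.isDefEq.respectTransparency.types false

universe u

open CategoryTheory CategoryTheory.Limits AlgebraicGeometry Opposite Groth.Agent.EtFound

noncomputable section

namespace Groth.Agent.EtLamFin

open Groth.Agent

variable (Λ : Type) [CommRing Λ] (ℓ : ℕ)

/-- the coefficients reduced modulo `ℓ` -/
abbrev Red : Type := Λ ⧸ Ideal.span {(ℓ : Λ)}

variable {Λ}

/-- scalars on the reduced coefficients -/
def mu (r : Λ) : AddCommGrpCat.of (ULift.{u + 1} (Red Λ ℓ)) ⟶ AddCommGrpCat.of (ULift.{u + 1} (Red Λ ℓ)) :=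
  AddCommGrpCat.ofHom (DistribSMul.toAddMonoidHom (ULift.{u + 1} (Red Λ ℓ)) r)

theorem nsmul_red (m : Red Λ ℓ) : ℓ • m = 0 := by
  obtain ⟨a, rfl⟩ := Ideal.Quotient.mk_surjective m
  rw [← map_nsmul, Ideal.Quotient.eq_zero_iff_mem, nsmul_eq_mul]
  exact Ideal.mul_mem_right _ _ (Ideal.mem_span_singleton_self _)

variable (Λ)

/-- the constant sheaf of the reduced coefficients, with its action -/
def redLam (Y : Scheme.{u}) : EtLam.Sheaf Λ Y where
  carrier := EtCoh.const Y (Red Λ ℓ)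
  act :=
    { toFun := fun r => (constantSheaf Y.smallEtaleTopology AddCommGrpCat.{u + 1}).map (mu ℓ r)
      map_one' := by
        rw [show mu ℓ (1 : Λ) = 𝟙 (AddCommGrpCat.of (ULift.{u + 1} (Red Λ ℓ))) from AddCommGrpCat.ext fun x => one_smul Λ _]
        exact (constantSheaf Y.smallEtaleTopology AddCommGrpCat.{u + 1}).map_id _
      map_mul' := fun r s => by
        rw [End.mul_def, show mu ℓ (r * s) = (mu ℓ s : _ ⟶ AddCommGrpCat.of (ULift.{u + 1} (Red Λ ℓ))) ≫ mu ℓ r from
          AddCommGrpCat.ext fun x => mul_smul r s _]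
        exact (constantSheaf Y.smallEtaleTopology AddCommGrpCat.{u + 1}).map_comp _ _
      map_zero' := by
        rw [show mu ℓ (0 : Λ) = (0 : AddCommGrpCat.of (ULift.{u + 1} (Red Λ ℓ)) ⟶ _) from
          AddCommGrpCat.ext fun x => zero_smul Λ _]
        exact Functor.map_zero _ _ _
      map_add' := fun r s => by
        rw [show mu ℓ (r + s) = (mu ℓ r : AddCommGrpCat.of (ULift.{u + 1} (Red Λ ℓ)) ⟶ _) + mu ℓ s from
          AddCommGrpCat.ext fun x => add_smul r s _]
        exact Functor.map_add _ }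

variable {X : Scheme.{u}}

theorem isFTLocConst_redLam (Y : Scheme.{u}) : EtModW.IsFTLocConst (CR.{u} Λ) (toMod (redLam Λ ℓ Y)) := by
  refine ModWLib.isFTLocConst_of_constBy _ fun x => ?_
  let J := Y.smallEtaleTopology
  let M' : AddCommGrpCat.{u + 1} := AddCommGrpCat.of (ULift.{u + 1} (Red Λ ℓ))
  let t := (toSheafify J ((Functor.const Y.Etaleᵒᵖ).obj M')).app (op (EtCoh.top Y))
  haveI : Module.Finite (CR.{u} Λ) (ULift.{u + 1} (Red Λ ℓ)) := module_finite_ulift (Red Λ ℓ)
  let φ : ModuleCat.of (CR.{u} Λ) (ULift.{u + 1} (Red Λ ℓ)) ⟶ (toMod (redLam Λ ℓ Y)).obj.obj (op (EtCoh.top Y)) :=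
    ConcreteCategory.ofHom (C := ModuleCat.{u + 1} (CR.{u} Λ)) (X := ModuleCat.of (CR.{u} Λ) (ULift.{u + 1} (Red Λ ℓ)))
      (Y := (toMod (redLam Λ ℓ Y)).obj.obj (op (EtCoh.top Y)))
      { toFun := fun m => t m
        map_add' := fun a b => map_add t.hom a b
        map_smul' := fun r m => ConcreteCategory.congr_hom
          (NatTrans.congr_app (toSheafify_naturality J ((Functor.const Y.Etaleᵒᵖ).map (mu.{u} ℓ r.down)))
            (op (EtCoh.top Y))) m }
  refine ⟨EtCoh.top Y, x, ModuleCat.of (CR.{u} Λ) (ULift.{u + 1} (Red Λ ℓ)), inferInstance, φ, rfl,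
    fun Ω _ _ ξ z => ?_⟩
  refine (bijective_germ_iff (toMod (redLam Λ ℓ Y)) ξ z (fun m => φ m)).2 ?_
  exact EtFound.toSheafify_const_germ_bijective ξ AddCommGrpCat.{u + 1} M' (EtCoh.top Y) z

/-- `j_!` of the reduced coefficients -/
def freeLam (U : X.Etale) : EtLam.Sheaf Λ X :=
  haveI : AlgebraicGeometry.Etale U.hom := U.prop
  haveI : EtShriek.JCont U.hom := EtFound.jCont U.hom
  (FinFr.extZeroLam U.hom (redLam Λ ℓ U.left) :)

theorem isConstructible_freeLam [X.IsSeparated] (U : X.Etale) [IsAffine U.left] :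
    EtModW.IsConstructible (CR.{u} Λ) (toMod (freeLam Λ ℓ U)) := by
  haveI : AlgebraicGeometry.Etale U.hom := U.prop
  haveI : EtShriek.JCont U.hom := EtFound.jCont U.hom
  haveI : IsSeparated (terminal.from X) := ‹X.IsSeparated›.1
  haveI : IsAffine ((𝟭 Scheme).obj U.left) := ‹IsAffine U.left›
  haveI : IsAffineHom (U.hom ≫ terminal.from X) := isAffineHom_of_isAffine _
  haveI : IsAffineHom U.hom := IsAffineHom.of_comp U.hom (terminal.from X)
  haveI : QuasiCompact U.hom := inferInstance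
  haveI : QuasiSeparated U.hom := inferInstance
  exact isConstructible_extZero U.hom (redLam Λ ℓ U.left) (isFTLocConst_redLam Λ ℓ U.left)

variable {Λ}

/-- a section killed by `ℓ` gives a map from the free sheaf hitting it -/
theorem exists_hom_of_section (G : EtModW.Mod (CR.{u} Λ) X) (hG : ℓ • 𝟙 G = 0) (U : X.Etale) (s : G.obj.obj (op U)) :
    ∃ (a : toMod (freeLam Λ ℓ U) ⟶ G) (t : (toMod (freeLam Λ ℓ U)).obj.obj (op U)), a.hom.app (op U) t = s := by
  haveI : AlgebraicGeometry.Etale U.hom := U.prop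
  haveI : EtShriek.JCont U.hom := EtFound.jCont U.hom
  let j : U.left ⟶ X := U.hom
  let i : (EtShriek.compEtale U.hom).obj (EtCoh.top U.left) ≅ U := MorphismProperty.Over.isoMk (Iso.refl _) rfl
  let U' := (EtShriek.compEtale U.hom).obj (EtCoh.top U.left)
  let s' : G.obj.obj (op U') := G.obj.map i.hom.op s
  have hs' : ℓ • s' = 0 := by
    have := EtFound.nsmul_hom_app (X := X) ((EtModD.forgetToAb (CR.{u} Λ) X).map (𝟙 G)) ℓ U' s'
    rw [← Functor.map_nsmul, hG, Functor.map_zero] at this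
    exact this.symm
  let ψ₀ : CR.{u} Λ →ₗ[CR.{u} Λ] G.obj.obj (op U') := LinearMap.toSpanSingleton (CR.{u} Λ) _ s'
  let ψ₁ : Red Λ ℓ →+ G.obj.obj (op U') := QuotientAddGroup.lift _
    (ψ₀.toAddMonoidHom.comp AddEquiv.ulift.symm.toAddMonoidHom) (by
      intro a ha
      obtain ⟨b, rfl⟩ := Ideal.mem_span_singleton'.1 ha
      show (ULift.up (b * (ℓ : Λ)) : CR.{u} Λ) • s' = 0
      rw [show (ULift.up (b * (ℓ : Λ)) : CR.{u} Λ) = ULift.up b * (ℓ : CR.{u} Λ) from rfl, mul_smul, Nat.cast_smul_eq_nsmul,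
        hs', smul_zero])
  let ψ : AddCommGrpCat.of (ULift.{u + 1} (Red Λ ℓ)) ⟶
      (EtCore.gsec U.left).obj ((EtShriek.restrAlong U.hom).obj (lamOf Λ G).carrier) :=
    AddCommGrpCat.ofHom (ψ₁.comp AddEquiv.ulift.toAddMonoidHom)
  have hψ : ∀ r : Λ, mu ℓ r ≫ ψ = ψ ≫ (EtCore.gsec U.left).map ((EtShriek.restrAlong U.hom).map ((lamOf Λ G).act r)) :=
    fun r => AddCommGrpCat.ext fun x => by
      obtain ⟨a, ha⟩ := Ideal.Quotient.mk_surjective (x : ULift.{u + 1} (Red Λ ℓ)).down
      obtain rfl : x = ULift.up (Ideal.Quotient.mk _ a) := ULift.ext _ _ ha.symm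
      show ψ₁ (r • (Ideal.Quotient.mk _ a : Red Λ ℓ)) = (ULift.up r : CR.{u} Λ) • ψ₁ (Ideal.Quotient.mk _ a)
      show (ULift.up (r * a) : CR.{u} Λ) • s' = (ULift.up r : CR.{u} Λ) • (ULift.up a : CR.{u} Λ) • s'
      rw [smul_smul]
      rfl
  let b : EtCoh.const U.left (Red Λ ℓ) ⟶ (EtShriek.restrAlong U.hom).obj (lamOf Λ G).carrier :=
    ((EtCore.constAdj U.left).homEquiv _ _).symm ψ
  have hb : ∀ r : Λ, (redLam Λ ℓ U.left).act r ≫ b = b ≫ (EtShriek.restrAlong U.hom).map ((lamOf Λ G).act r) := fun r => by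
    refine ((EtCore.constAdj U.left).homEquiv_naturality_left_symm _ _).symm.trans ?_
    rw [hψ r]
    exact (EtCore.constAdj U.left).homEquiv_naturality_right_symm _ _
  let a : (freeLam Λ ℓ U).carrier ⟶ (lamOf Λ G).carrier := ((EtShriek.extZeroAdj U.hom).homEquiv _ _).symm b
  have ha : ∀ r, (freeLam Λ ℓ U).act r ≫ a = a ≫ (lamOf Λ G).act r := fun r => by
    refine ((EtShriek.extZeroAdj U.hom).homEquiv_naturality_left_symm _ _).symm.trans ?_
    rw [hb r]
    exact (EtShriek.extZeroAdj U.hom).homEquiv_naturality_right_symm _ _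
  let F := (freeLam Λ ℓ U).carrier
  let one : F.obj.obj (op U') := ((EtShriek.extZeroAdj U.hom).unit.app (EtCoh.const U.left (Red Λ ℓ))).hom.app
    (op (EtCoh.top U.left)) ((EtCore.constAdj U.left).unit.app (AddCommGrpCat.of (ULift.{u + 1} (Red Λ ℓ)))
      (ULift.up 1))
  have h1 : a.hom.app (op U') one = s' := by
    have e1 : (EtShriek.extZeroAdj U.hom).unit.app (EtCoh.const U.left (Red Λ ℓ)) ≫
        (EtShriek.restrAlong U.hom).map a = b :=
      ((EtShriek.extZeroAdj U.hom).homEquiv_unit _ _ _).symm.trans (Equiv.apply_symm_apply _ _)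
    have e2 : (EtCore.constAdj U.left).unit.app _ ≫ (EtCore.gsec U.left).map b = ψ :=
      ((EtCore.constAdj U.left).homEquiv_unit _ _ _).symm.trans (Equiv.apply_symm_apply _ _)
    rw [← e1] at e2
    refine (ConcreteCategory.congr_hom e2 (ULift.up 1)).trans ?_
    show (ULift.up (1 : Λ) : CR.{u} Λ) • s' = s'
    exact one_smul _ _
  refine ⟨homOfAct _ G a ha, F.obj.map i.inv.op one, ?_⟩
  refine (NatTrans.naturality_apply a.hom i.inv.op one).trans ?_
  refine (congrArg (G.obj.map i.inv.op) h1).trans ?_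
  show G.obj.map i.inv.op (G.obj.map i.hom.op s) = s
  rw [← ConcreteCategory.comp_apply, ← Functor.map_comp, ← op_comp, i.inv_hom_id, op_id, CategoryTheory.Functor.map_id]
  rfl

section Cohomology

/-- coordinates on a finitely generated group killed by a prime -/
theorem exists_coords {A : Type} [AddCommGroup A] (p : ℕ) [Fact p.Prime] (F : Finset A) (hA : ∀ a : A, p • a = 0) :
    ∃ (n : ℕ) (c : Fin n → (AddSubgroup.closure (F : Set A)) →+ ZMod p)
      (g : Fin n → AddSubgroup.closure (F : Set A)), ∀ s, s = ∑ a, (c a s).val • g a := by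
  classical
  let S := AddSubgroup.closure (F : Set A)
  letI : Module (ZMod p) S := AddCommGroup.zmodModule (n := p) (G := S) fun x => Subtype.ext (hA x.1)
  haveI : Module.Finite (ZMod p) S := by
    refine ⟨⟨(F.attach.image fun m => (⟨m.1, AddSubgroup.subset_closure m.2⟩ : S)), eq_top_iff.2 fun z hz' => ?_⟩⟩
    clear hz'
    obtain ⟨z, hz⟩ := z
    induction hz using AddSubgroup.closure_induction with
    | mem m hm => exact Submodule.subset_span (Finset.mem_image.2 ⟨⟨m, hm⟩, Finset.mem_attach _ _, rfl⟩)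
    | zero => exact Submodule.zero_mem _
    | add a b ha hb iha ihb => exact Submodule.add_mem _ iha ihb
    | neg a ha iha => exact Submodule.neg_mem _ iha
  let b := Module.finBasis (ZMod p) S
  refine ⟨_, fun a => (b.coord a).toAddMonoidHom, fun a => b a, fun s => ?_⟩
  refine (b.sum_repr s).symm.trans (Finset.sum_congr rfl fun a _ => ?_)
  rw [← Nat.cast_smul_eq_nsmul (ZMod p), ZMod.natCast_zmod_val]
  rfl

theorem sum_hom_apply {A B : AddCommGrpCat.{u + 1}} {ι : Type*} (s : Finset ι) (g : ι → (A ⟶ B)) (x : A) :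
    (∑ a ∈ s, g a).hom x = ∑ a ∈ s, (g a).hom x :=
  map_sum (AddMonoidHom.mk' (fun g : A ⟶ B => g.hom x) fun _ _ => rfl) g s

/-- finite sets of elements, as an index category -/
structure FIdx (M : Type) : Type u where
  set : Finset M

instance (M : Type) : Preorder (FIdx.{u} M) where
  le a b := a.set ⊆ b.set
  le_refl a := Finset.Subset.refl _
  le_trans a b c h h' := h.trans h'

instance (M : Type) : IsDirectedOrder (FIdx.{u} M) := by
  classical
  exact ⟨fun a b => ⟨⟨a.set ∪ b.set⟩, Finset.subset_union_left, Finset.subset_union_right⟩⟩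

instance (M : Type) : Nonempty (FIdx.{u} M) := ⟨⟨∅⟩⟩

variable (M : Type) [AddCommGroup M]

/-- the subgroups generated by finite sets -/
def subDiagram : FIdx.{u} M ⥤ AddCommGrpCat.{u + 1} where
  obj a := AddCommGrpCat.of (ULift.{u + 1} (AddSubgroup.closure (a.set : Set M)))
  map {a b} h := AddCommGrpCat.ofHom (AddEquiv.ulift.symm.toAddMonoidHom.comp
    ((AddSubgroup.inclusion (AddSubgroup.closure_mono (Finset.coe_subset.2 h.le))).comp AddEquiv.ulift.toAddMonoidHom))
  map_id a := AddCommGrpCat.ext fun x => rfl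
  map_comp h h' := AddCommGrpCat.ext fun x => rfl

/-- the cocone to the whole group -/
def subCocone : Cocone (subDiagram.{u} M) where
  pt := AddCommGrpCat.of (ULift.{u + 1} M)
  ι :=
    { app := fun a => AddCommGrpCat.ofHom (AddEquiv.ulift.symm.toAddMonoidHom.comp
        ((AddSubgroup.closure (a.set : Set M)).subtype.comp AddEquiv.ulift.toAddMonoidHom))
      naturality := fun a b h => AddCommGrpCat.ext fun x => rfl }

/-- a group is the colimit of its finitely generated subgroups -/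
def isColimitSubCocone : IsColimit (subCocone.{u} M) := by
  haveI : ReflectsColimitsOfShape (FIdx.{u} M) (CategoryTheory.forget AddCommGrpCat.{u + 1}) :=
    reflectsColimitsOfShape_of_reflectsIsomorphisms
  refine isColimitOfReflects (CategoryTheory.forget AddCommGrpCat.{u + 1})
    (Types.FilteredColimit.isColimitOf' _ _ (fun x => ?_) fun i x y e => ?_)
  · classical
    exact ⟨⟨{(x : ULift.{u + 1} M).down}⟩, ULift.up ⟨_, AddSubgroup.subset_closure (by simp)⟩, rfl⟩
  · exact ⟨i, 𝟙 i, congrArg _ (ULift.ext _ _ (Subtype.ext (congrArg ULift.down e)))⟩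

variable (k : Type u) [Field k] [IsAlgClosed k] [Fact ℓ.Prime] [IsNoetherianRing Λ]

/-- cohomology of the free sheaves is finitely generated -/
theorem finite_H_free (f : X ⟶ Spec (CommRingCat.of k)) [IsSeparated f] [LocallyOfFiniteType f] [QuasiCompact f]
    (hdim : topologicalKrullDim X ≤ 1) (h : (ℓ : k) ≠ 0 ∨ IsProper f) (U : X.Etale) [IsAffine U.left] (q : ℕ) :
    Module.Finite Λ (EtCoh.H X (freeLam Λ ℓ U).carrier q) := by
  haveI : IsLocallyNoetherian X := LocallyOfFiniteType.isLocallyNoetherian f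
  haveI : CompactSpace X := QuasiCompact.compactSpace_of_compactSpace f
  haveI : IsNoetherian X := {}
  haveI : X.IsSeparated := ⟨by rw [← terminal.comp_from f]; infer_instance⟩
  haveI : AlgebraicGeometry.Etale U.hom := U.prop
  haveI : EtShriek.JCont U.hom := EtFound.jCont U.hom
  haveI : IsSeparated (terminal.from X) := ‹X.IsSeparated›.1
  haveI : IsAffine ((𝟭 Scheme).obj U.left) := ‹IsAffine U.left›
  haveI : IsAffineHom (U.hom ≫ terminal.from X) := isAffineHom_of_isAffine _
  haveI : IsAffineHom U.hom := IsAffineHom.of_comp U.hom (terminal.from X)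
  let j : U.left ⟶ X := U.hom
  haveI : AlgebraicGeometry.Etale j := U.prop
  haveI : EtShriek.JCont j := EtFound.jCont j
  haveI : IsAffineHom j := ‹IsAffineHom U.hom›
  let Φ : AddCommGrpCat.{u + 1} ⥤ EtCoh.Ab X :=
    constantSheaf U.left.smallEtaleTopology AddCommGrpCat.{u + 1} ⋙ EtShriek.extZero j
  haveI : PreservesColimitsOfSize.{u, u} (constantSheaf U.left.smallEtaleTopology AddCommGrpCat.{u + 1}) :=
    (EtCore.constAdj U.left).leftAdjoint_preservesColimits
  haveI : PreservesColimitsOfSize.{u, u} (EtShriek.extZero j) :=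
    (EtShriek.extZeroAdj j).leftAdjoint_preservesColimits
  haveI := S0099.result X q (FIdx.{u} (Red Λ ℓ))
  haveI : (EtShriek.extZero j).Additive := (EtShriek.extZeroAdj j).left_adjoint_additive
  haveI : (EtCoh.HF X q).Additive := by
    unfold EtCoh.HF
    infer_instance
  let Ψ : AddCommGrpCat.{u + 1} ⥤ AddCommGrpCat.{u + 1} := Φ ⋙ EtCoh.HF X q
  haveI : Ψ.Additive := by
    show ((constantSheaf U.left.smallEtaleTopology AddCommGrpCat.{u + 1} ⋙ EtShriek.extZero j) ⋙ EtCoh.HF X q).Additive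
    infer_instance
  -- the cyclic piece
  have hlift : Int.castAddHom (Red Λ ℓ) (ℓ : ℤ) = 0 := by
    show ((ℓ : ℤ) : Red Λ ℓ) = 0
    rw [Int.cast_natCast]
    simpa [nsmul_eq_mul] using nsmul_red ℓ (1 : Red Λ ℓ)
  let h₁ : AddCommGrpCat.of (ULift.{u + 1} (ZMod ℓ)) ⟶ AddCommGrpCat.of (ULift.{u + 1} (Red Λ ℓ)) :=
    AddCommGrpCat.ofHom (AddEquiv.ulift.symm.toAddMonoidHom.comp ((ZMod.lift ℓ ⟨Int.castAddHom (Red Λ ℓ), hlift⟩).comp AddEquiv.ulift.toAddMonoidHom))
  haveI hfin : Finite (EtCoh.H X ((EtShriek.extZero j).obj (EtCoh.const U.left (ZMod ℓ))) q) := by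
    haveI : NeZero ℓ := ⟨(Fact.out : ℓ.Prime).ne_zero⟩
    refine EtCurveFin.finite_H k f hdim (NeZero.pos ℓ) h q
      (EtFound.isConstructible_extZero j (EtTorLib.isFiniteLocallyConstant_const (ZMod ℓ))) ?_
    exact EtCurveFin.nsmul_map_eq_zero _ (EtCurveFin.nsmul_const_eq_zero _ fun x => by
      rw [nsmul_eq_mul, ZMod.natCast_self, zero_mul])
  haveI : Finite (Ψ.obj (AddCommGrpCat.of (ULift.{u + 1} (ZMod ℓ)))) := by
    exact hfin
  let T : Set (EtCoh.H X (freeLam Λ ℓ U).carrier q) :=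
    Set.range fun y : Ψ.obj (AddCommGrpCat.of (ULift.{u + 1} (ZMod ℓ))) => Ψ.map h₁ y
  refine ⟨Submodule.fg_def.2 ⟨T, Set.finite_range _, eq_top_iff.2 fun x _ => ?_⟩⟩
  let D := subDiagram.{u} (Red Λ ℓ)
  have hc := isColimitOfPreserves (EtCoh.HF X q) (isColimitOfPreserves Φ (isColimitSubCocone.{u} (Red Λ ℓ)))
  obtain ⟨i, y, hy⟩ := Concrete.isColimit_exists_rep _ hc x
  subst hy
  show Ψ.map ((subCocone.{u} (Red Λ ℓ)).ι.app i) y ∈ Submodule.span Λ T
  classical
  let S := AddSubgroup.closure (i.set : Set (Red Λ ℓ))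
  obtain ⟨n, cS, g, hg⟩ := exists_coords ℓ i.set (nsmul_red (Λ := Λ) ℓ)
  choose r hr using fun a : Fin n => Ideal.Quotient.mk_surjective (g a : Red Λ ℓ)
  let c : ∀ a, D.obj i ⟶ AddCommGrpCat.of (ULift.{u + 1} (ZMod ℓ)) := fun a =>
    AddCommGrpCat.ofHom (AddEquiv.ulift.symm.toAddMonoidHom.comp
      ((cS a).comp AddEquiv.ulift.toAddMonoidHom))
  have hdec : (subCocone.{u} (Red Λ ℓ)).ι.app i = ∑ a, c a ≫ h₁ ≫ mu ℓ (r a) := by
    refine AddCommGrpCat.ext fun z => ?_
    refine Eq.trans ?_ (sum_hom_apply _ _ z).symm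
    refine ULift.ext _ _ ?_
    refine Eq.trans ?_ (map_sum (AddEquiv.ulift : ULift.{u + 1} (Red Λ ℓ) ≃+ Red Λ ℓ).toAddMonoidHom _ _).symm
    refine (congrArg Subtype.val (hg (z : ULift.{u + 1} S).down)).trans ?_
    refine (map_sum S.subtype _ _).trans (Finset.sum_congr rfl fun a _ => ?_)
    have key : ∀ m : ZMod ℓ, S.subtype (m.val • g a) =
        r a • (h₁.hom (ULift.up m) : ULift.{u + 1} (Red Λ ℓ)).down := fun m => by
      show _ = r a • ZMod.lift ℓ (A := Red Λ ℓ) ⟨Int.castAddHom (Red Λ ℓ), hlift⟩ m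
      have hm : ((m.val : ℤ) : ZMod ℓ) = m := by rw [Int.cast_natCast, ZMod.natCast_zmod_val]
      conv_rhs => rw [← hm, ZMod.lift_coe]
      show _ = r a • ((m.val : ℤ) : Red Λ ℓ)
      rw [map_nsmul, AddSubgroup.coe_subtype, ← hr, nsmul_eq_mul, Int.cast_natCast, Algebra.smul_def, mul_comm]
      simp
    exact key (cS a (z : ULift.{u + 1} S).down)
  rw [hdec, Ψ.map_sum]
  refine Set.mem_of_eq_of_mem (sum_hom_apply _ _ y) ?_
  refine Submodule.sum_mem _ fun a _ => ?_
  rw [Ψ.map_comp, Ψ.map_comp]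
  exact Submodule.smul_mem (Submodule.span Λ T) (r a) (Submodule.subset_span ⟨Ψ.map (c a) y, rfl⟩)

end Cohomology

end Groth.Agent.EtLamFin
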