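import Groth.Agent.EtLamFin.Free
import Groth.Agent.EtCurveFin.Torsion
import Groth.Agent.EtTorLib.Sections
import Groth.Agent.ModWLib.Noeth
import Groth.Agent.ModWLib.ConstrSerre
import Groth.Agent.FieldCd.ClosedPts
import Groth.Agent.S0151

/-!
# Finiteness of the cohomology of constructible sheaves of modules on curves
-/

set_option autoImplicit false
set_option maxHeartbeats 800000
set_option linter.style.haveILetI false
set_option linter.unusedSectionVars false
set_option backward.isDefEq.respectTransparency false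
set_option backward.isDefEq.respectTransparency.types false

universe u

open CategoryTheory CategoryTheory.Limits AlgebraicGeometry Opposite

noncomputable section

namespace Groth.Agent.EtLamFin

open Groth.Agent

variable {Λ : Type} [CommRing Λ] {X : Scheme.{u}}

attribute [local instance] Abelian.hasFiniteBiproducts

theorem nsmul_forget_iff {G : EtModW.Mod (CR.{u} Λ) X} (n : ℕ) :
    n • 𝟙 ((EtModD.forgetToAb (CR.{u} Λ) X).obj G) = 0 ↔ n • 𝟙 G = 0 := by
  rw [← CategoryTheory.Functor.map_id, ← Functor.map_nsmul]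
  constructor
  · intro h
    refine Sheaf.hom_ext (NatTrans.ext (funext fun U => ModuleCat.hom_ext (LinearMap.ext fun x => ?_)))
    have e := ConcreteCategory.congr_hom (C := AddCommGrpCat.{u + 1}) (congrArg (fun t => t.hom.app U) h) x
    exact e
  · intro h
    rw [h, Functor.map_zero]

theorem nsmul_eq_zero_of_iso {A B : EtCoh.Ab X} (e : A ≅ B) {n : ℕ} (h : n • 𝟙 A = 0) : n • 𝟙 B = 0 := by
  have := congrArg (fun t => e.inv ≫ t ≫ e.hom) h
  simpa using this

theorem nsmul_toMod_iff (L : EtLam.Sheaf Λ X) (n : ℕ) : n • 𝟙 (toMod L) = 0 ↔ n • 𝟙 L.carrier = 0 :=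
  (nsmul_forget_iff (G := toMod L) n).symm.trans
    ⟨fun h => nsmul_eq_zero_of_iso (toModIso L) h, fun h => nsmul_eq_zero_of_iso (toModIso L).symm h⟩

theorem nsmul_freeLam (ℓ : ℕ) (U : X.Etale) : ℓ • 𝟙 (toMod (freeLam Λ ℓ U)) = 0 := by
  let j : U.left ⟶ X := U.hom
  haveI : AlgebraicGeometry.Etale j := U.prop
  haveI : EtShriek.JCont j := EtFound.jCont j
  haveI : (EtShriek.extZero j).Additive := (EtShriek.extZeroAdj j).left_adjoint_additive
  refine (nsmul_toMod_iff _ ℓ).2 ?_
  exact EtCurveFin.nsmul_map_eq_zero (EtShriek.extZero j)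
    (EtCurveFin.nsmul_const_eq_zero U.left fun x => nsmul_red ℓ x)

theorem isConstructible_biproduct [IsNoetherianRing Λ] {G₀ : EtModW.Mod (CR.{u} Λ) X}
    (h₀ : EtModW.IsConstructible (CR.{u} Λ) G₀) : ∀ {n : ℕ} (G : Fin n → EtModW.Mod (CR.{u} Λ) X),
      (∀ i, EtModW.IsConstructible (CR.{u} Λ) (G i)) → EtModW.IsConstructible (CR.{u} Λ) (⨁ G)
  | 0, G, _ => by
    haveI : IsNoetherianRing (CR.{u} Λ) := isNoetherianRing_of_ringEquiv Λ ULift.ringEquiv.symm
    have hz : IsZero (⨁ G) := (IsZero.iff_id_eq_zero _).2 (biproduct.hom_ext _ _ fun i => i.elim0)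
    exact ModWLib.isConstructible_of_iso ((isZero_kernel_of_mono (𝟙 G₀)).iso hz)
      (ModWLib.isConstructible_kernel (𝟙 G₀) h₀ h₀)
  | n + 1, G, hG => by
    haveI : IsNoetherianRing (CR.{u} Λ) := isNoetherianRing_of_ringEquiv Λ ULift.ringEquiv.symm
    classical
    let G' := fun i : Fin n => G i.succ
    let S : ShortComplex (EtModW.Mod (CR.{u} Λ) X) :=
      ShortComplex.mk (biproduct.ι G 0) (biproduct.lift (f := G') fun i => biproduct.π G i.succ) (by
        refine biproduct.hom_ext _ _ fun i => ?_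
        rw [Category.assoc, biproduct.lift_π, zero_comp, biproduct.ι_π_ne G (Fin.succ_ne_zero i).symm])
    let σ : S.Splitting :=
      { r := biproduct.π G 0
        s := biproduct.desc fun i => biproduct.ι G i.succ
        f_r := biproduct.ι_π_self G 0
        s_g := by
          refine biproduct.hom_ext' _ _ fun i => biproduct.hom_ext _ _ fun i' => ?_
          simp only [S, biproduct.ι_desc_assoc, Category.assoc, biproduct.lift_π, Category.comp_id]
          rcases eq_or_ne i i' with rfl | hne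
          · rw [biproduct.ι_π_self, biproduct.ι_π_self]
          · rw [biproduct.ι_π_ne G ((Fin.succ_injective n).ne hne), biproduct.ι_π_ne G' hne]
        id := by
          refine (congrArg _ ?_).trans ((Fin.sum_univ_succ fun i => biproduct.π G i ≫ biproduct.ι G i).symm.trans
            biproduct.total)
          rw [biproduct.lift_desc] }
    exact ModWLib.isConstructible_extension σ.shortExact (hG 0)
      (isConstructible_biproduct h₀ G' fun i => hG i.succ)

theorem nsmul_biproduct {n m : ℕ} (G : Fin n → EtModW.Mod (CR.{u} Λ) X) (h : ∀ i, m • 𝟙 (G i) = 0) :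
    m • 𝟙 (⨁ G) = 0 :=
  EtCurveFin.nsmul_biproduct_eq_zero G h

/-- torsion killed by a positive integer -/
theorem isTorsion_of_nsmul {F : EtCoh.Ab X} {n : ℕ} (hn : 0 < n) (h : n • 𝟙 F = 0) : EtCoh.IsTorsion F :=
  fun U s x => ⟨U, 𝟙 U, ⟨x, rfl⟩, isOfFinAddOrder_iff_nsmul_eq_zero.2
    ⟨n, hn, (EtFound.killedBy_iff_nsmul n F).2 h U _⟩⟩

variable [IsNoetherianRing Λ] [IsNoetherian X]

/-- constructible sheaves of modules killed by a prime are quotients of free ones -/
theorem exists_epi_free {G : EtModW.Mod (CR.{u} Λ) X} (hG : EtModW.IsConstructible (CR.{u} Λ) G) {ℓ : ℕ}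
    (hℓ : ℓ • 𝟙 G = 0) : ∃ (N : ℕ) (U : Fin N → X.Etale), (∀ i, IsAffine (U i).left) ∧
      ∃ p : (⨁ fun i => toMod (freeLam Λ ℓ (U i))) ⟶ G, Epi p := by
  haveI : IsNoetherianRing (CR.{u} Λ) := isNoetherianRing_of_ringEquiv Λ ULift.ringEquiv.symm
  haveI := ModWLib.isNoetherianObject_of_isConstructible hG
  let 𝒮 : Set (Subobject G) := {P | ∃ (N : ℕ) (U : Fin N → X.Etale), (∀ i, IsAffine (U i).left) ∧
    ∃ p : (⨁ fun i => toMod (freeLam Λ ℓ (U i))) ⟶ G, imageSubobject p = P}
  obtain ⟨P, ⟨N, U, hU, p, rfl⟩, hmax⟩ := wellFounded_gt.has_min 𝒮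
    ⟨_, 0, Fin.elim0, fun i => i.elim0, 0, rfl⟩
  refine ⟨N, U, hU, p, ?_⟩
  have hepi : Epi ((EtModD.forgetToAb (CR.{u} Λ) X).map (imageSubobject p).arrow) := by
    refine EtTorLib.epi_of_locally _ fun V s x => ?_
    obtain ⟨W, g, hW, w, hw⟩ := EtTorLib.exists_affine_nhd V x
    obtain ⟨a, t, hat⟩ := exists_hom_of_section ℓ G hℓ W (G.obj.map g.op s)
    let U' : Fin (N + 1) → X.Etale := Fin.cons W U
    let F' := fun i => toMod (freeLam Λ ℓ (U' i))
    let p' : (⨁ F') ⟶ G := biproduct.desc (Fin.cons (α := fun i => F' i ⟶ G) a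
      fun i => biproduct.ι (fun i => toMod (freeLam Λ ℓ (U i))) i ≫ p)
    have hle : imageSubobject p ≤ imageSubobject p' := by
      refine imageSubobject_le p (biproduct.desc (fun i => biproduct.ι F' i.succ) ≫ factorThruImageSubobject p') ?_
      rw [Category.assoc, imageSubobject_arrow_comp]
      refine biproduct.hom_ext' _ _ fun i => ?_
      rw [biproduct.ι_desc_assoc, biproduct.ι_desc]
      rfl
    have heq : imageSubobject p' = imageSubobject p := by
      by_contra hne
      refine hmax _ ⟨N + 1, U', Fin.cases hW hU, p', rfl⟩ (lt_of_le_of_ne hle (Ne.symm hne))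
    refine ⟨W, g, w, (biproduct.ι F' 0 ≫ factorThruImageSubobject p' ≫ (Subobject.ofLE _ _ heq.le)).hom.app (op W) t, ?_, hw⟩
    refine Eq.trans ?_ hat
    have e : (biproduct.ι F' 0 ≫ factorThruImageSubobject p' ≫ Subobject.ofLE _ _ heq.le) ≫ (imageSubobject p).arrow = a := by
      rw [Category.assoc, Category.assoc, Subobject.ofLE_arrow, imageSubobject_arrow_comp, biproduct.ι_desc]
      rfl
    exact congr(($e).hom.app (op W) t)
  haveI : Epi (imageSubobject p).arrow := (EtModD.forgetToAb (CR.{u} Λ) X).epi_of_epi_map hepi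
  rw [← imageSubobject_arrow_comp p]
  infer_instance

/-- constructible sheaves of modules with torsion stalks are killed by an integer -/
theorem exists_killed (L : EtLam.Sheaf Λ X) (hL : EtLam.IsConstructible L) (hLt : EtCoh.IsTorsion L.carrier) :
    ∃ n : ℕ, 0 < n ∧ n • 𝟙 L.carrier = 0 := by
  haveI : IsNoetherianRing (CR.{u} Λ) := isNoetherianRing_of_ringEquiv Λ ULift.ringEquiv.symm
  let G := toMod L
  haveI := ModWLib.isNoetherianObject_of_isConstructible (isConstructible_toMod L hL)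
  let f : ℕ → (G ⟶ G) := fun m => m.factorial • 𝟙 G
  have hmono : Monotone fun m => kernelSubobject (f m) := fun m m' hm => by
    obtain ⟨c, hc⟩ := Nat.factorial_dvd_factorial hm
    refine le_kernelSubobject _ _ ?_
    have h0 : (kernelSubobject (f m)).arrow ≫ f m = 0 := kernelSubobject_arrow_comp _
    simp only [f, Preadditive.comp_nsmul, Category.comp_id] at h0 ⊢
    rw [hc, mul_comm, mul_nsmul', h0, smul_zero]
  obtain ⟨N, hN⟩ := monotone_chain_condition_of_isNoetherianObject (⟨_, hmono⟩ : ℕ →o Subobject G)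
  refine ⟨N.factorial, N.factorial_pos, (EtFound.killedBy_iff_nsmul _ _).1 fun U s => ?_⟩
  refine EtTorLib.eq_zero_of_locally _ fun x => ?_
  obtain ⟨V, g, ⟨v, hv⟩, hfin⟩ := hLt U s x
  refine ⟨V, g, v, ?_, hv⟩
  obtain ⟨m, hm0, hm⟩ := isOfFinAddOrder_iff_nsmul_eq_zero.1 hfin
  rw [map_nsmul (L.carrier.obj.map g.op).hom]
  obtain ⟨c, hc⟩ := Nat.dvd_factorial hm0 (le_max_left m N)
  have hM : (max m N).factorial • L.carrier.obj.map g.op s = 0 := by
    rw [hc, mul_comm, mul_nsmul', hm, smul_zero]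
  -- read the section in the sheaf of modules
  letI := modOn L (op V)
  let τ : G.obj.obj (op V) := L.carrier.obj.map g.op s
  let S : ShortComplex (EtModW.Mod (CR.{u} Λ) X) :=
    ShortComplex.mk (kernel.ι (f (max m N))) (f (max m N)) (kernel.condition _)
  have hS : S.Exact := S.exact_of_f_is_kernel (kernelIsKernel _)
  let θ : ModuleCat.of (CR.{u} Λ) (CR.{u} Λ) ⟶ G.obj.obj (op V) :=
    ModuleCat.ofHom (LinearMap.toSpanSingleton (CR.{u} Λ) (G.obj.obj (op V)) τ)
  have hθ1 : θ.hom (1 : CR.{u} Λ) = τ := LinearMap.toSpanSingleton_apply_one _ _ _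
  have hθ : θ ≫ S.g.hom.app (op V) = 0 := by
    refine ModuleCat.hom_ext (LinearMap.ext_ring ?_)
    refine (congrArg (fun t => (f (max m N)).hom.app (op V) t) hθ1).trans ?_
    exact (EtFound.nsmul_hom_app ((EtModD.forgetToAb (CR.{u} Λ) X).map (𝟙 G)) _ V τ).trans hM
  obtain ⟨ψ, hψ⟩ := ModWLib.exists_lift_sections hS θ hθ
  have hle : kernelSubobject (f (max m N)) ≤ kernelSubobject (f N) := (hN (max m N) (le_max_right m N)).ge
  have h0 : kernel.ι (f (max m N)) ≫ f N = 0 := by
    rw [← kernelSubobject_arrow', Category.assoc, ← Subobject.ofLE_arrow hle, Category.assoc,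
      kernelSubobject_arrow_comp, comp_zero, comp_zero]
  have hτ : (kernel.ι (f (max m N))).hom.app (op V) (ψ 1) = τ :=
    (ConcreteCategory.congr_hom hψ (1 : CR.{u} Λ)).trans hθ1
  have := congr(($h0).hom.app (op V) (ψ 1))
  refine ((EtFound.nsmul_hom_app ((EtModD.forgetToAb (CR.{u} Λ) X).map (𝟙 G)) _ V τ).symm.trans ?_)
  rw [← hτ]
  exact this

omit [AlgebraicGeometry.IsNoetherian X] [IsNoetherianRing Λ] in
/-- a killed sheaf with invertible torsion is killed by an invertible integer -/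
theorem exists_killed_invertible (k : Type u) [Field k] {F : EtCoh.Ab X} (hex : ∃ n : ℕ, 0 < n ∧ n • 𝟙 F = 0)
    (hFt : EtPBC.IsTorsionInvertibleOn (Spec (CommRingCat.of k)) F) :
    ∃ n : ℕ, 0 < n ∧ (n : k) ≠ 0 ∧ n • 𝟙 F = 0 := by
  classical
  obtain ⟨hd0, hd⟩ := Nat.find_spec hex
  refine ⟨Nat.find hex, hd0, fun h0 => ?_, hd⟩
  rcases CharP.char_is_prime_or_zero k (ringChar k) with hp | hp
  swap
  · have h1 := (ringChar.spec k _).1 h0
    rw [hp, zero_dvd_iff] at h1
    omega
  obtain ⟨e, he⟩ := (ringChar.spec k _).1 h0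
  have he0 : 0 < e := Nat.pos_of_ne_zero fun h => by rw [h, mul_zero] at he; omega
  have hlt : e < Nat.find hex := by
    rw [he]
    exact lt_mul_left he0 hp.one_lt
  refine Nat.find_min hex hlt ⟨he0, (EtFound.killedBy_iff_nsmul e F).1 fun U s => ?_⟩
  have hps : ringChar k • (e • s) = 0 := by
    rw [← mul_nsmul', ← he]
    exact (EtFound.killedBy_iff_nsmul _ F).2 hd U s
  refine EtTorLib.eq_zero_of_locally _ fun x => ?_
  obtain ⟨V, g, m, ⟨v, hv⟩, hm, hms⟩ := hFt U s x
  refine ⟨V, g, v, ?_, hv⟩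
  have hmk : (m : k) ≠ 0 := by
    have h := hm.map (Scheme.ΓSpecIso (CommRingCat.of k)).hom.hom
    rw [map_natCast] at h
    exact h.ne_zero
  have hcop : Nat.Coprime (ringChar k) m :=
    (Nat.Prime.coprime_iff_not_dvd hp).2 fun hdvd => hmk ((ringChar.spec k m).2 hdvd)
  have h1 : addOrderOf (F.obj.map g.op (e • s)) ∣ ringChar k := addOrderOf_dvd_of_nsmul_eq_zero
    (((map_nsmul (F.obj.map g.op).hom (ringChar k) _).symm).trans ((congrArg _ hps).trans (map_zero (F.obj.map g.op).hom)))
  have h2 : addOrderOf (F.obj.map g.op (e • s)) ∣ m := addOrderOf_dvd_of_nsmul_eq_zero (by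
    rw [map_nsmul (F.obj.map g.op).hom, ← mul_nsmul', mul_comm, mul_nsmul']
    exact (congrArg (e • ·) hms).trans (smul_zero e))
  exact AddMonoid.addOrderOf_eq_one_iff.1 (Nat.eq_one_of_dvd_coprimes hcop h1 h2)

variable (k : Type u) [Field k] [IsAlgClosed k] (f : X ⟶ Spec (CommRingCat.of k)) [IsSeparated f]
  [LocallyOfFiniteType f] [QuasiCompact f] (hdim : topologicalKrullDim X ≤ 1)

include hdim in
/-- finiteness for sheaves killed by a prime -/
theorem finite_of_prime {ℓ : ℕ} [Fact ℓ.Prime] (h : (ℓ : k) ≠ 0 ∨ IsProper f) :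
    ∀ (q : ℕ) {G : EtModW.Mod (CR.{u} Λ) X}, EtModW.IsConstructible (CR.{u} Λ) G → ℓ • 𝟙 G = 0 →
      Module.Finite Λ (EtCoh.H X (lamOf Λ G).carrier q) := by
  haveI : IsNoetherianRing (CR.{u} Λ) := isNoetherianRing_of_ringEquiv Λ ULift.ringEquiv.symm
  haveI : X.IsSeparated := ⟨by rw [← terminal.comp_from f]; infer_instance⟩
  obtain ⟨d, hd⟩ := S0151.result k X f 0 fun F _ p hp => FieldCd.subsingleton_H_of_isAlgClosed k F p hp
  suffices H : ∀ (i q : ℕ), d < q + i → ∀ {G : EtModW.Mod (CR.{u} Λ) X}, EtModW.IsConstructible (CR.{u} Λ) G →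
      ℓ • 𝟙 G = 0 → Module.Finite Λ (EtCoh.H X (lamOf Λ G).carrier q) from
    fun q => H (d + 1) q (by omega)
  intro i
  induction i with
  | zero =>
    intro q hq G _ hn
    haveI : Subsingleton (EtCoh.H X (lamOf Λ G).carrier q) :=
      hd _ (isTorsion_of_nsmul (Fact.out : ℓ.Prime).pos ((nsmul_forget_iff ℓ).2 hn)) q (by omega)
    exact @Module.Finite.of_finite Λ (EtCoh.H X (lamOf Λ G).carrier q) _ _ _ Finite.of_subsingleton
  | succ i ih =>
    intro q hq G hG hn
    obtain ⟨N, U, hU, p, hp⟩ := exists_epi_free hG hn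
    haveI := hp
    let F := fun c => toMod (freeLam Λ ℓ (U c))
    have hF : EtModW.IsConstructible (CR.{u} Λ) (⨁ F) := isConstructible_biproduct hG F fun c => by
      haveI := hU c
      exact isConstructible_freeLam Λ ℓ (U c)
    have hFn : ℓ • 𝟙 (⨁ F) = 0 := nsmul_biproduct F fun c => nsmul_freeLam ℓ (U c)
    have hKn : ℓ • 𝟙 (kernel p) = 0 := by
      rw [← cancel_mono (kernel.ι p), zero_comp, Preadditive.nsmul_comp, Category.id_comp,
        ← Category.comp_id (kernel.ι p), ← Preadditive.comp_nsmul, hFn, comp_zero]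
    let S : ShortComplex (EtModW.Mod (CR.{u} Λ) X) := ShortComplex.mk (kernel.ι p) p (kernel.condition p)
    have hS : S.ShortExact := { exact := S.exact_of_f_is_kernel (kernelIsKernel p), epi_g := hp }
    haveI : Module.Finite Λ (EtCoh.H X (lamOf Λ S.X₁).carrier (q + 1)) :=
      ih (q + 1) (by omega) (ModWLib.isConstructible_kernel p hF hG) hKn
    haveI : Module.Finite Λ (EtCoh.H X (lamOf Λ S.X₂).carrier q) := finite_biproduct F q fun c => by
      haveI := hU c
      haveI := finite_H_free (Λ := Λ) (ℓ := ℓ) k f hdim h (U c) q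
      refine finite_of_iso (L := freeLam Λ ℓ (U c)) (L' := lamOf Λ (toMod (freeLam Λ ℓ (U c))))
        (toModIso (freeLam Λ ℓ (U c))).symm (fun r => ?_) q
      exact (Iso.eq_inv_comp _).2 ((Category.assoc _ _ _).symm.trans
        ((Iso.comp_inv_eq _).2 (toModIso_comp (freeLam Λ ℓ (U c)) r).symm))
    exact finite_right hS q

include hdim in
/-- finiteness for sheaves killed by an integer -/
theorem finite_of_killed : ∀ (n : ℕ), 0 < n → ((n : k) ≠ 0 ∨ IsProper f) → ∀ (q : ℕ) {G : EtModW.Mod (CR.{u} Λ) X},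
    EtModW.IsConstructible (CR.{u} Λ) G → n • 𝟙 G = 0 → Module.Finite Λ (EtCoh.H X (lamOf Λ G).carrier q) := by
  haveI : IsNoetherianRing (CR.{u} Λ) := isNoetherianRing_of_ringEquiv Λ ULift.ringEquiv.symm
  intro n
  induction n using Nat.strong_induction_on with
  | _ n ih =>
    intro hn0 h q G hG hn
    by_cases h1 : n = 1
    · subst h1
      haveI : Subsingleton (EtCoh.H X (lamOf Λ G).carrier q) := ⟨fun a b => by
        have h0 : 𝟙 (lamOf Λ G).carrier = 0 := (one_nsmul _).symm.trans ((nsmul_forget_iff 1).2 hn)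
        rw [← Sheaf.H.map_id_apply (x := a), ← Sheaf.H.map_id_apply (x := b), h0, Sheaf.H.map_apply,
          Sheaf.H.map_apply, Abelian.Ext.mk₀_zero, Abelian.Ext.comp_zero, Abelian.Ext.comp_zero]⟩
      exact @Module.Finite.of_finite Λ (EtCoh.H X (lamOf Λ G).carrier q) _ _ _ Finite.of_subsingleton
    obtain ⟨p, hp, b, rfl⟩ := Nat.exists_prime_and_dvd h1
    haveI := Fact.mk hp
    have hb0 : 0 < b := Nat.pos_of_ne_zero fun hb => by rw [hb, mul_zero] at hn0; omega
    have hbk : (b : k) ≠ 0 ∨ IsProper f := h.imp_left fun h => by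
      rw [Nat.cast_mul] at h
      exact right_ne_zero_of_mul h
    have hpk : (p : k) ≠ 0 ∨ IsProper f := h.imp_left fun h => by
      rw [Nat.cast_mul] at h
      exact left_ne_zero_of_mul h
    let φ : G ⟶ G := p • 𝟙 G
    let S : ShortComplex (EtModW.Mod (CR.{u} Λ) X) :=
      ShortComplex.mk (kernel.ι φ) (cokernel.π (kernel.ι φ)) (cokernel.condition _)
    have hS : S.ShortExact := { exact := S.exact_of_g_is_cokernel (cokernelIsCokernel _) }
    have hK : EtModW.IsConstructible (CR.{u} Λ) (kernel φ) := ModWLib.isConstructible_kernel φ hG hG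
    have hKp : p • 𝟙 (kernel φ) = 0 := by
      have h0 := kernel.condition φ
      simp only [φ, Preadditive.comp_nsmul, Category.comp_id] at h0
      rw [← cancel_mono (kernel.ι φ), zero_comp, Preadditive.nsmul_comp, Category.id_comp, h0]
    have hCb : b • 𝟙 (cokernel (kernel.ι φ)) = 0 := by
      have hlift : (b • 𝟙 G) ≫ φ = 0 := by
        simp only [φ, Preadditive.comp_nsmul, Category.comp_id]
        rw [← mul_nsmul', hn]
      rw [← cancel_epi (cokernel.π (kernel.ι φ)), comp_zero, Preadditive.comp_nsmul, Category.comp_id,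
        ← Category.id_comp (cokernel.π (kernel.ι φ)), ← Preadditive.nsmul_comp, ← kernel.lift_ι φ _ hlift,
        Category.assoc, cokernel.condition, comp_zero]
    haveI : Module.Finite Λ (EtCoh.H X (lamOf Λ S.X₁).carrier q) := finite_of_prime k f hdim hpk q hK hKp
    haveI : Module.Finite Λ (EtCoh.H X (lamOf Λ S.X₃).carrier q) := ih b (lt_mul_left hb0 hp.one_lt) hb0 hbk q
      (ModWLib.isConstructible_cokernel (kernel.ι φ) hK hG) hCb
    exact finite_middle hS q

include hdim in
/-- **Finiteness** for sheaves with action whose sheaf of modules is constructible -/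
theorem finite_lam (L : EtLam.Sheaf Λ X) (hL : EtModW.IsConstructible (CR.{u} Λ) (toMod L)) {n : ℕ} (hn0 : 0 < n)
    (h : (n : k) ≠ 0 ∨ IsProper f) (hn : n • 𝟙 L.carrier = 0) (q : ℕ) : Module.Finite Λ (EtCoh.H X L.carrier q) := by
  haveI := finite_of_killed k f hdim n hn0 h q hL ((nsmul_toMod_iff L n).2 hn)
  exact finite_of_iso (L := lamOf Λ (toMod L)) (L' := L) (toModIso L) (toModIso_comp L) q

end Groth.Agent.EtLamFin
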